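import Mathlib.RingTheory.GradedAlgebra.Radical
import Mathlib.RingTheory.Ideal.MinimalPrime.Noetherian
import Mathlib.RingTheory.KrullDimension.NonZeroDivisors
import Mathlib.RingTheory.KrullDimension.Polynomial
import Mathlib.RingTheory.KrullDimension.Field
import Mathlib.RingTheory.IntegralClosure.IsIntegralClosure.Basic
import Mathlib.RingTheory.FiniteType
import Mathlib.RingTheory.Spectrum.Prime.Topology
import Mathlib.RingTheory.Ideal.GoingUp
import Mathlib.RingTheory.AlgebraicIndependent.Basic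

set_option autoImplicit false
universe u v w

namespace Groth.Agent.Segre.Param

open DirectSum

/-- dimension is invariant under injective integral extensions -/
lemma ringKrullDim_eq_of_isIntegral {A : Type u} {B : Type v} [CommRing A] [CommRing B]
    (f : A →+* B) (hf : f.IsIntegral) (hi : Function.Injective f) :
    ringKrullDim A = ringKrullDim B := by
  algebraize [f]
  haveI : Algebra.IsIntegral A B := ⟨hf⟩
  refine le_antisymm ?_ ?_
  · -- going up
    refine iSup_le fun s => ?_
    suffices h : ∀ i : Fin (s.length + 1), ∃ t : LTSeries (PrimeSpectrum B),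
        t.length = (i : ℕ) ∧ t.last.asIdeal.comap f = (s i).asIdeal by
      obtain ⟨t, ht, -⟩ := h (Fin.last _)
      rw [Fin.val_last] at ht
      exact ht ▸ le_iSup (fun t : LTSeries (PrimeSpectrum B) => ((t.length : ℕ) : WithBot ℕ∞)) t
    intro i
    induction i using Fin.induction with
    | zero =>
      obtain ⟨q, hq⟩ := RingHom.IsIntegral.comap_surjective hf hi (s 0)
      exact ⟨RelSeries.singleton _ q, rfl, congrArg PrimeSpectrum.asIdeal hq⟩
    | succ i ih =>
      obtain ⟨t, ht, htc⟩ := ih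
      obtain ⟨Q, hle, hQ, hQc⟩ := Ideal.exists_ideal_over_prime_of_isIntegral
        (s i.succ).asIdeal t.last.asIdeal (by
          show t.last.asIdeal.comap f ≤ _
          rw [htc]; exact (s.step i).le)
      have hlt : t.last < ⟨Q, hQ⟩ := lt_of_le_of_ne hle fun h => by
        have e : s i.castSucc = s i.succ := PrimeSpectrum.ext (by rw [← htc, h]; exact hQc)
        exact (s.step i).ne e
      exact ⟨t.snoc ⟨Q, hQ⟩ hlt, by simp [ht], by rw [RelSeries.last_snoc]; exact hQc⟩
  · refine Order.krullDim_le_of_strictMono (PrimeSpectrum.comap f) fun P Q h => ?_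
    exact Ideal.IsIntegral.comap_lt_comap (R := A) (I := P.asIdeal) (J := Q.asIdeal) h

variable {k : Type u} [Field k] {R : Type v} [CommRing R] [Algebra k R]
  (𝒜 : ℤ → Submodule k R) [GradedAlgebra 𝒜]

/-- the ideal of positively graded elements -/
def Plus : Ideal R := Ideal.span {x | ∃ n : ℤ, 0 < n ∧ x ∈ 𝒜 n}

variable {𝒜}

lemma mem_plus {n : ℤ} (hn : 0 < n) {x : R} (hx : x ∈ 𝒜 n) : x ∈ Plus 𝒜 :=
  Ideal.subset_span ⟨n, hn, hx⟩

variable (hpos : ∀ n : ℤ, n < 0 → 𝒜 n = ⊥) (h0 : 𝒜 0 = Submodule.span k {(1 : R)})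

include hpos h0

lemma exists_sub_mem_plus (x : R) : ∃ c : k, x - algebraMap k R c ∈ Plus 𝒜 := by
  induction x using DirectSum.Decomposition.inductionOn 𝒜 with
  | zero => exact ⟨0, by simp⟩
  | add a b ha hb =>
    obtain ⟨c, hc⟩ := ha
    obtain ⟨d, hd⟩ := hb
    exact ⟨c + d, by rw [map_add, add_sub_add_comm]; exact add_mem hc hd⟩
  | homogeneous a =>
    rename_i n
    rcases lt_trichotomy n 0 with h | rfl | h
    · exact ⟨0, by
        have h' : (a : R) = 0 := (Submodule.mem_bot k).mp ((hpos n h).le a.2)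
        simp [h']⟩
    · obtain ⟨c, hc⟩ := Submodule.mem_span_singleton.mp (h0 ▸ a.2 : (a : R) ∈ Submodule.span k {(1 : R)})
      exact ⟨c, by rw [← hc, Algebra.smul_def, mul_one, sub_self]; exact zero_mem _⟩
    · exact ⟨0, by simpa using mem_plus h a.2⟩

lemma eq_plus_of_plus_le {p : Ideal R} (hp : p ≠ ⊤) (h : Plus 𝒜 ≤ p) : p = Plus 𝒜 := by
  refine le_antisymm (fun x hx => ?_) h
  obtain ⟨c, hc⟩ := exists_sub_mem_plus hpos h0 x
  by_cases hc0 : c = 0
  · simpa [hc0] using hc
  · exact absurd (Ideal.eq_top_of_isUnit_mem _ (by simpa using sub_mem hx (h hc))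
      ((isUnit_iff_ne_zero.mpr hc0).map (algebraMap k R))) hp

lemma le_plus_of_homogeneous {p : Ideal R} (hp : p ≠ ⊤) (hh : p.IsHomogeneous 𝒜) : p ≤ Plus 𝒜 := by
  classical
  intro x hx
  rw [← DirectSum.sum_support_decompose 𝒜 x]
  refine sum_mem fun n _ => ?_
  have hxn := hh n hx
  have hmem : (decompose 𝒜 x n : R) ∈ 𝒜 n := SetLike.coe_mem _
  rcases lt_trichotomy n 0 with h | rfl | h
  · rw [(Submodule.mem_bot k).mp ((hpos n h).le hmem)]; exact zero_mem _
  · obtain ⟨c, hc⟩ := Submodule.mem_span_singleton.mp (h0.le hmem)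
    rw [← hc, Algebra.smul_def, mul_one] at hxn ⊢
    rcases eq_or_ne c 0 with rfl | hc0
    · simp
    · exact absurd (Ideal.eq_top_of_isUnit_mem _ hxn
        ((isUnit_iff_ne_zero.mpr hc0).map (algebraMap k R))) hp
  · exact mem_plus h hmem

omit hpos h0 in
lemma isHomogeneous_plus : (Plus 𝒜).IsHomogeneous 𝒜 :=
  Ideal.homogeneous_span 𝒜 _ fun _ hx => ⟨_, hx.choose_spec.2⟩

omit hpos h0 in
lemma minimalPrime_isHomogeneous {I p : Ideal R} (hI : I.IsHomogeneous 𝒜)
    (hp : p ∈ I.minimalPrimes) : p.IsHomogeneous 𝒜 := by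
  have h1 : (p.homogeneousCore 𝒜).toIdeal.IsPrime := hp.isPrime.homogeneousCore
  have h2 : I ≤ (p.homogeneousCore 𝒜).toIdeal := by
    rw [← hI.toIdeal_homogeneousCore_eq_self]
    exact Ideal.homogeneousCore_mono 𝒜 hp.le
  have := hp.2 ⟨h1, h2⟩ (Ideal.toIdeal_homogeneousCore_le 𝒜 p)
  rw [le_antisymm this (Ideal.toIdeal_homogeneousCore_le 𝒜 p)]
  exact (p.homogeneousCore 𝒜).isHomogeneous

omit hpos h0 in
/-- homogeneous prime avoidance -/
lemma exists_homogeneous_avoid (s : Finset (Ideal R)) (hp : ∀ p ∈ s, p.IsPrime)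
    (hh : ∀ p ∈ s, p.IsHomogeneous 𝒜) (hP : ∀ p ∈ s, ¬ Plus 𝒜 ≤ p)
    (hinc : ∀ p ∈ s, ∀ q ∈ s, p ≤ q → p = q) :
    ∃ d : ℕ, 0 < d ∧ ∃ f ∈ 𝒜 d, ∀ p ∈ s, f ∉ p := by
  classical
  induction s using Finset.induction_on with
  | empty => exact ⟨1, one_pos, 0, zero_mem _, by simp⟩
  | insert p s hps ih =>
    obtain ⟨d, hd, f, hf, hfs⟩ := ih (fun q hq => hp q (Finset.mem_insert_of_mem hq))
      (fun q hq => hh q (Finset.mem_insert_of_mem hq))
      (fun q hq => hP q (Finset.mem_insert_of_mem hq))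
      (fun q hq q' hq' => hinc q (Finset.mem_insert_of_mem hq) q' (Finset.mem_insert_of_mem hq'))
    by_cases hfp : f ∈ p
    swap
    · exact ⟨d, hd, f, hf, by simp [hfp]; exact hfs⟩
    have hpp := hp p (Finset.mem_insert_self p s)
    have hne : ¬ (s.inf id ⊓ Plus 𝒜 ≤ p) := fun h => by
      rcases hpp.inf_le.mp h with h | h
      · obtain ⟨q, hq, hqp⟩ := hpp.inf_le'.mp h
        exact hps (hinc q (Finset.mem_insert_of_mem hq) p (Finset.mem_insert_self p s) hqp ▸ hq)
      · exact hP p (Finset.mem_insert_self p s) h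
    obtain ⟨x, ⟨hxs, hxP⟩, hxp⟩ := SetLike.not_le_iff_exists.mp hne
    -- a homogeneous element of positive degree outside `p`
    obtain ⟨e, he, g, hg, hgs, hgp⟩ : ∃ e : ℕ, 0 < e ∧ ∃ g ∈ 𝒜 e,
        (∀ q ∈ s, g ∈ q) ∧ g ∉ p := by
      by_contra hcon
      push Not at hcon
      apply hxp
      have : ∀ y ∈ Plus 𝒜, ∀ z, (∀ q ∈ s, z ∈ q) → y * z ∈ p := by
        intro y hy
        induction hy using Submodule.span_induction with
        | mem y hy =>
          obtain ⟨n, hn, hy⟩ := hy
          intro z hz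
          rw [← DirectSum.sum_support_decompose 𝒜 z, Finset.mul_sum]
          refine sum_mem fun m _ => ?_
          by_cases hm : 0 < n + m
          · refine hcon (n + m).toNat (by omega) _ ?_ fun q hq => q.mul_mem_left _
              (hh q (Finset.mem_insert_of_mem hq) m (hz q hq))
            rw [Int.toNat_of_nonneg hm.le]
            exact SetLike.mul_mem_graded hy (SetLike.coe_mem _)
          · have : n.toNat > 0 := by omega
            by_cases hyp : y ∈ p
            · exact p.mul_mem_right _ hyp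
            · have h2 := hcon (n + m + n * (-m + 1)).toNat (by
                have : 0 < n * (-m + 1) := Int.mul_pos hn (by omega)
                have : -m + 1 ≤ n * (-m + 1) := le_mul_of_one_le_left (by omega) (by omega)
                omega) (y * decompose 𝒜 z m * y ^ (-m + 1).toNat) (by
                have h' : -m + 1 ≤ n * (-m + 1) := le_mul_of_one_le_left (by omega) (by omega)
                rw [Int.toNat_of_nonneg (by omega)]
                refine SetLike.mul_mem_graded (SetLike.mul_mem_graded hy (SetLike.coe_mem _)) ?_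
                have := SetLike.pow_mem_graded (-m + 1).toNat hy
                rwa [nsmul_eq_mul, Int.toNat_of_nonneg (by omega), mul_comm] at this)
                fun q hq => q.mul_mem_right _ (q.mul_mem_left _
                  (hh q (Finset.mem_insert_of_mem hq) m (hz q hq)))
              exact (hpp.mem_or_mem h2).resolve_right fun h => hyp (hpp.mem_of_pow_mem _ h)
        | zero => simp
        | add a b _ _ ha hb =>
          intro z hz; rw [add_mul]; exact add_mem (ha z hz) (hb z hz)
        | smul c a _ ha =>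
          intro z hz
          rw [smul_eq_mul, mul_assoc, mul_left_comm]
          exact ha (c * z) fun q hq => q.mul_mem_left _ (hz q hq)
      have hx : x * x ∈ p := this x hxP x fun q hq => Finset.inf_le (f := id) hq hxs
      exact (hpp.mem_or_mem hx).elim id id
    refine ⟨d * e, Nat.mul_pos hd he, f ^ e + g ^ d, add_mem ?_ ?_, ?_⟩
    · have := SetLike.pow_mem_graded e hf
      rwa [nsmul_eq_mul, ← Nat.cast_mul, mul_comm] at this
    · have := SetLike.pow_mem_graded d hg
      rwa [nsmul_eq_mul, ← Nat.cast_mul] at this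
    · intro q hq h
      rcases Finset.mem_insert.mp hq with rfl | hq'
      · exact hgp (hpp.mem_of_pow_mem d (by simpa using sub_mem h (Ideal.pow_mem_of_mem _ hfp e he)))
      · exact hfs q hq' ((hp q hq).mem_of_pow_mem e
          (by simpa using sub_mem h (Ideal.pow_mem_of_mem _ (hgs q hq') d hd)))

variable [Algebra.FiniteType k R]

lemma step {I : Ideal R} (hI : I.IsHomogeneous 𝒜) {n : ℕ}
    (hn : ringKrullDim (R ⧸ I) ≤ (n + 1 : ℕ)) :
    ∃ d : ℕ, 0 < d ∧ ∃ f ∈ 𝒜 d, ringKrullDim (R ⧸ (I ⊔ Ideal.span {f})) ≤ (n : ℕ) := by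
  classical
  haveI : IsNoetherianRing R := Algebra.FiniteType.isNoetherianRing k R
  let s := (Ideal.finite_minimalPrimes_of_isNoetherianRing R I).toFinset.filter (¬ Plus 𝒜 ≤ ·)
  have hs : ∀ p ∈ s, p ∈ I.minimalPrimes ∧ ¬ Plus 𝒜 ≤ p := by simp [s]
  obtain ⟨d, hd, f, hf, hfs⟩ := exists_homogeneous_avoid s (fun p hp => (hs p hp).1.isPrime)
    (fun p hp => minimalPrime_isHomogeneous hI (hs p hp).1) (fun p hp => (hs p hp).2)
    (fun p hp q hq h => le_antisymm h ((hs q hq).1.2 ⟨(hs p hp).1.isPrime, (hs p hp).1.le⟩ h))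
  refine ⟨d, hd, f, hf, ?_⟩
  rw [ringKrullDim_quotient] at hn ⊢
  refine iSup_le fun t => ?_
  have hq : I ⊔ Ideal.span {f} ≤ t.head.1.asIdeal := t.head.2
  obtain ⟨p, hp, hpq⟩ := Ideal.exists_minimalPrimes_le (le_sup_left.trans hq)
  by_cases hP : Plus 𝒜 ≤ p
  · -- the series has length zero
    have hall : ∀ i, (t i).1.asIdeal = Plus 𝒜 := fun i =>
      eq_plus_of_plus_le hpos h0 (t i).1.2.ne_top
        ((hP.trans hpq).trans (t.monotone (Fin.zero_le i)))
    have : t.length = 0 := by
      by_contra hne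
      have h01 := t.strictMono (show (0 : Fin (t.length + 1)) < Fin.last _ by
        rw [Fin.lt_def]; simp; omega)
      exact h01.ne (Subtype.ext (PrimeSpectrum.ext ((hall _).trans (hall _).symm)))
    simp [this]
  · have hfp : f ∉ p := hfs p (by simp [s, hp, hP])
    let t' : LTSeries (PrimeSpectrum.zeroLocus (R := R) I) := t.map
      (fun x => ⟨x.1, fun y hy => (le_sup_left.trans x.2 : I ≤ x.1.asIdeal) hy⟩) fun a b h => h
    have hlt : (⟨⟨p, hp.isPrime⟩, hp.le⟩ : PrimeSpectrum.zeroLocus (R := R) I) < t'.head :=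
      lt_of_le_of_ne hpq fun h => hfp (by
        have : p = t.head.1.asIdeal := congrArg (fun x => x.1.asIdeal) h
        rw [this]
        exact hq (Ideal.mem_sup_right (Ideal.mem_span_singleton_self f)))
    have := (le_iSup (fun x : LTSeries (PrimeSpectrum.zeroLocus (R := R) I) =>
      ((x.length : ℕ) : WithBot ℕ∞)) (t'.cons _ hlt)).trans hn
    simp [t'] at this
    exact_mod_cast Nat.le_of_add_le_add_right (show t.length + 1 ≤ n + 1 by exact_mod_cast this)

lemma exists_params (n : ℕ) : ∀ (I : Ideal R), I.IsHomogeneous 𝒜 → ringKrullDim (R ⧸ I) ≤ (n : ℕ) →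
    ∃ (e : Fin n → ℕ) (f : Fin n → R), (∀ i, 0 < e i ∧ f i ∈ 𝒜 (e i)) ∧
      ringKrullDim (R ⧸ (I ⊔ Ideal.span (Set.range f))) ≤ 0 := by
  induction n with
  | zero =>
    intro I _ h
    refine ⟨Fin.elim0, Fin.elim0, fun i => i.elim0, ?_⟩
    rw [Set.range_eq_empty, Ideal.span_empty, sup_bot_eq]
    exact_mod_cast h
  | succ n ih =>
    intro I hI h
    obtain ⟨d, hd, f, hf, hle⟩ := step hpos h0 hI h
    obtain ⟨e, g, hg, hle'⟩ := ih (I ⊔ Ideal.span {f})
      (hI.sup (Ideal.homogeneous_span 𝒜 _ (by rintro x rfl; exact ⟨_, hf⟩))) hle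
    refine ⟨Fin.cons d e, Fin.cons f g, fun i => Fin.cases ⟨hd, hf⟩ hg i, ?_⟩
    rw [Fin.range_cons, Ideal.span_insert, ← sup_assoc]
    exact hle'

lemma monomial_span {J : Ideal R} (hJ : J.IsHomogeneous 𝒜) {r d : ℕ} (hd : 0 < d) {f : Fin r → R}
    (hf : ∀ i, f i ∈ 𝒜 (d : ℤ)) (hnil : ∀ x ∈ Plus 𝒜, x ∈ (Ideal.span (Set.range f) ⊔ J).radical) :
    ∃ (m : ℕ) (e : Fin m → ℤ) (w : Fin m → R), (∀ j, w j ∈ 𝒜 (e j)) ∧
      ⊤ ≤ Submodule.span k {y | ∃ (L : List (Fin r)) (j : Fin m), y = (L.map f).prod * w j} ⊔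
        J.restrictScalars k := by
  classical
  let I := Ideal.span (Set.range f) ⊔ J
  haveI : Algebra.IsIntegral k (R ⧸ I) := ⟨fun y => by
    obtain ⟨x, rfl⟩ := Ideal.Quotient.mk_surjective y
    obtain ⟨c, hc⟩ := exists_sub_mem_plus hpos h0 x
    obtain ⟨N, hN⟩ := hnil _ hc
    have h : IsIntegral k (Ideal.Quotient.mk I (x - algebraMap k R c)) :=
      ⟨Polynomial.X ^ N, Polynomial.monic_X_pow N, by
        simp only [Polynomial.eval₂_X_pow, ← map_pow, Ideal.Quotient.eq_zero_iff_mem]
        exact hN⟩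
    simpa using h.add (isIntegral_algebraMap (R := k) (A := R ⧸ I) (x := c))⟩
  haveI : Algebra.FiniteType k (R ⧸ I) :=
    Algebra.FiniteType.of_surjective (Ideal.Quotient.mkₐ k I) Ideal.Quotient.mk_surjective
  haveI : Module.Finite k (R ⧸ I) := Algebra.IsIntegral.finite
  obtain ⟨s, hs⟩ := Module.Finite.fg_top (R := k) (M := R ⧸ I)
  choose lift hlift using fun y : R ⧸ I => Ideal.Quotient.mk_surjective y
  let W : Finset (ℤ × R) := s.biUnion fun y => (decompose 𝒜 (lift y)).support.image
    fun i => (i, (decompose 𝒜 (lift y) i : R))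
  have hW : ∀ q ∈ W, q.2 ∈ 𝒜 q.1 := by
    simp only [W, Finset.mem_biUnion, Finset.mem_image]
    rintro q ⟨y, -, i, -, rfl⟩
    exact SetLike.coe_mem _
  let φ := W.equivFin.symm
  let w : Fin W.card → R := fun j => (φ j).1.2
  let ee : Fin W.card → ℤ := fun j => (φ j).1.1
  have hw : ∀ j, w j ∈ 𝒜 (ee j) := fun j => hW _ (φ j).2
  let M₀ : Submodule k R :=
    Submodule.span k {y | ∃ (L : List (Fin r)) (j : Fin W.card), y = (L.map f).prod * w j}
  let M : Submodule k R := M₀ ⊔ J.restrictScalars k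
  have hmul₀ : ∀ i, ∀ x ∈ M₀, f i * x ∈ M₀ := by
    intro i x hx
    induction hx using Submodule.span_induction with
    | mem y hy =>
      obtain ⟨L, j, rfl⟩ := hy
      exact Submodule.subset_span ⟨i :: L, j, by simp [mul_assoc]⟩
    | zero => simp
    | add a b _ _ ha hb => rw [mul_add]; exact add_mem ha hb
    | smul c a _ ha => rw [mul_smul_comm]; exact Submodule.smul_mem _ c ha
  have hmul : ∀ i, ∀ x ∈ M, f i * x ∈ M := by
    intro i x hx
    obtain ⟨a, ha, b, hb, rfl⟩ := Submodule.mem_sup.mp hx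
    rw [mul_add]
    exact Submodule.add_mem_sup (hmul₀ i a ha) (show f i * b ∈ J from J.mul_mem_left _ hb)
  have hsplit : ∀ x : R, ∃ x' ∈ Submodule.span k (Set.range w), x - x' ∈ I := by
    intro x
    have : Ideal.Quotient.mk I x ∈ (Submodule.span k (Set.range w)).map
        (Ideal.Quotient.mkₐ k I).toLinearMap := by
      have : (⊤ : Submodule k (R ⧸ I)) ≤ (Submodule.span k (Set.range w)).map
          (Ideal.Quotient.mkₐ k I).toLinearMap := by
        rw [← hs, Submodule.span_le]
        intro y hy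
        refine ⟨lift y, ?_, hlift y⟩
        rw [← sum_support_decompose 𝒜 (lift y)]
        refine sum_mem fun i hi => Submodule.subset_span ?_
        refine ⟨W.equivFin ⟨(i, (decompose 𝒜 (lift y) i : R)), ?_⟩, by simp [w, φ]⟩
        simp only [W, Finset.mem_biUnion, Finset.mem_image]
        exact ⟨y, hy, i, hi, rfl⟩
      exact this Submodule.mem_top
    obtain ⟨x', hx', e⟩ := this
    exact ⟨x', hx', (Ideal.Quotient.eq (I := I)).mp e.symm⟩
  have hgood : ∀ n : ℕ, ∀ (q : ℤ), q < n → ∀ x ∈ 𝒜 q, x ∈ M := by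
    intro n
    induction n with
    | zero =>
      intro q hq x hx
      rw [hpos q (by simpa using hq), Submodule.mem_bot] at hx
      rw [hx]; exact zero_mem _
    | succ n ih =>
      intro q hq x hx
      obtain ⟨x', hx', hxI⟩ := hsplit x
      obtain ⟨y, hy, j, hj, hyj⟩ := Submodule.mem_sup.mp hxI
      obtain ⟨c, hc⟩ := (Ideal.mem_span_range_iff_exists_fun).mp hy
      rw [← hc, ← eq_sub_iff_add_eq] at hyj
      have hdec := congrArg (fun z => (decompose 𝒜 z q : R)) hyj
      simp only [decompose_sub, DirectSum.sub_apply, AddSubgroupClass.coe_sub,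
        decompose_of_mem_same 𝒜 hx, decompose_sum] at hdec
      rw [DFinsupp.finsetSum_apply, AddSubmonoidClass.coe_finsetSum] at hdec
      rw [eq_sub_iff_add_eq, eq_sub_iff_add_eq] at hdec
      rw [← hdec]
      refine add_mem (add_mem (sum_mem fun i _ => ?_) (Submodule.mem_sup_right (hJ q hj))) ?_
      · have := coe_decompose_mul_add_of_right_mem 𝒜 (a := c i) (i := q - d) (hf i)
        rw [sub_add_cancel] at this
        rw [this, mul_comm]
        exact hmul i _ (ih (q - d) (by omega) _ (SetLike.coe_mem _))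
      · clear hdec hxI hc hyj
        induction hx' using Submodule.span_induction with
        | mem y hy =>
          obtain ⟨j, rfl⟩ := hy
          by_cases he : ee j = q
          · rw [← he, decompose_of_mem_same 𝒜 (hw j)]
            exact Submodule.mem_sup_left (Submodule.subset_span ⟨[], j, by simp⟩)
          · rw [decompose_of_mem_ne 𝒜 (hw j) he]; exact zero_mem _
        | zero => simp
        | add a b _ _ ha hb => simp [decompose_add]; exact add_mem ha hb
        | smul t a _ ha => rw [decompose_smul, DirectSum.smul_apply, Submodule.coe_smul]; exact Submodule.smul_mem _ t ha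
  have hM : ⊤ ≤ M := by
    intro x _
    rw [← sum_support_decompose 𝒜 x]
    refine sum_mem fun q _ => hgood (q.toNat + 1) q (by omega) _ (SetLike.coe_mem _)
  exact ⟨W.card, ee, w, hw, hM⟩

/-- an equal degree system of parameters and the monomial span -/
theorem exists_parameters (r : ℕ) (hr : ringKrullDim R = r) :
    ∃ d₀ : ℕ, 0 < d₀ ∧ ∀ c : ℕ, 0 < c →
    ∃ f : Fin r → R, (∀ i, f i ∈ 𝒜 ((d₀ * c : ℕ) : ℤ)) ∧ AlgebraicIndependent k f ∧
      ∃ (m : ℕ) (e : Fin m → ℤ) (w : Fin m → R), (∀ j, w j ∈ 𝒜 (e j)) ∧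
        ⊤ ≤ Submodule.span k {y | ∃ (L : List (Fin r)) (j : Fin m), y = (L.map f).prod * w j} := by
  classical
  obtain ⟨e, g, hg, hdim⟩ := exists_params hpos h0 r ⊥ (Ideal.IsHomogeneous.bot 𝒜)
    (le_of_eq ((ringKrullDim_eq_of_ringEquiv (RingEquiv.quotientBot R)).trans hr))
  rw [bot_sup_eq] at hdim
  refine ⟨∏ i, e i, Finset.prod_pos fun i _ => (hg i).1, fun c hc => ?_⟩
  let d := (∏ i, e i) * c
  have hd : 0 < d := Nat.mul_pos (Finset.prod_pos fun i _ => (hg i).1) hc
  let f : Fin r → R := fun i => g i ^ ((∏ j ∈ Finset.univ.erase i, e j) * c)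
  have hf : ∀ i, f i ∈ 𝒜 d := fun i => by
    have := SetLike.pow_mem_graded ((∏ j ∈ Finset.univ.erase i, e j) * c) (hg i).2
    rwa [nsmul_eq_mul, ← Nat.cast_mul, mul_right_comm,
      Finset.prod_erase_mul _ _ (Finset.mem_univ i)] at this
  let I := Ideal.span (Set.range f)
  have hI : I.IsHomogeneous 𝒜 :=
    Ideal.homogeneous_span 𝒜 _ (by rintro x ⟨i, rfl⟩; exact ⟨_, hf i⟩)
  have hmax : ∀ p : Ideal R, p.IsPrime → I ≤ p → Plus 𝒜 ≤ p := by
    intro p hp hIp
    obtain ⟨q, hq, hqp⟩ := Ideal.exists_minimalPrimes_le hIp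
    have hqh := minimalPrime_isHomogeneous hI hq
    have hgq : Ideal.span (Set.range g) ≤ q := by
      rw [Ideal.span_le]
      rintro _ ⟨i, rfl⟩
      exact hq.isPrime.mem_of_pow_mem _ (hq.le (Ideal.subset_span ⟨i, rfl⟩))
    have hqm : q.IsMaximal := by
      haveI := hq.isPrime
      haveI : Ring.KrullDimLE 0 (R ⧸ Ideal.span (Set.range g)) := Ring.krullDimLE_iff.mpr hdim
      haveI : (q.map (Ideal.Quotient.mk (Ideal.span (Set.range g)))).IsPrime :=
        Ideal.map_isPrime_of_surjective Ideal.Quotient.mk_surjective (by rwa [Ideal.mk_ker])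
      have := Ideal.comap_isMaximal_of_surjective (Ideal.Quotient.mk (Ideal.span (Set.range g)))
        Ideal.Quotient.mk_surjective
        (K := q.map (Ideal.Quotient.mk (Ideal.span (Set.range g))))
        (H := Ideal.isMaximal_of_isPrime _)
      rwa [Ideal.comap_map_of_surjective' _ Ideal.Quotient.mk_surjective, Ideal.mk_ker,
        sup_eq_left.mpr hgq] at this
    have hne : Plus 𝒜 ≠ ⊤ := by
      intro htop
      -- the degree zero component of `1`
      have key : ∀ y ∈ Plus 𝒜, ∀ z : R, (decompose 𝒜 (z * y) 0 : R) = 0 := by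
        intro y hy
        induction hy using Submodule.span_induction with
        | mem y hy =>
          obtain ⟨n, hn, hy⟩ := hy
          intro z
          have := coe_decompose_mul_add_of_right_mem 𝒜 (a := z) (i := -n) hy
          rw [neg_add_cancel] at this
          rw [this]
          have hm : (decompose 𝒜 z (-n) : R) ∈ 𝒜 (-n) := SetLike.coe_mem _
          rw [(Submodule.mem_bot k).mp ((hpos (-n) (by omega)).le hm), zero_mul]
        | zero => simp
        | add a b _ _ ha hb => intro z; rw [mul_add, decompose_add, DirectSum.add_apply, Submodule.coe_add, ha z, hb z, add_zero]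
        | smul c a _ ha => intro z; rw [smul_eq_mul, ← mul_assoc]; exact ha (z * c)
      have h1 := key 1 (htop ▸ Submodule.mem_top) 1
      rw [one_mul, decompose_of_mem_same 𝒜 (SetLike.one_mem_graded 𝒜)] at h1
      have : Nontrivial R := ⟨⟨0, 1, fun h => hp.ne_top (p.eq_top_iff_one.mpr (h ▸ p.zero_mem))⟩⟩
      exact one_ne_zero h1
    exact (hqm.eq_of_le hne (le_plus_of_homogeneous hpos h0 hq.isPrime.ne_top hqh)) ▸ hqp
  have hnil : ∀ x ∈ Plus 𝒜, x ∈ I.radical := by
    intro x hx
    rw [Ideal.radical_eq_sInf, Ideal.mem_sInf]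
    rintro p ⟨hIp, hp⟩
    exact hmax p hp hIp hx
  obtain ⟨m, ee, w, hw, hM'⟩ := monomial_span hpos h0 (Ideal.IsHomogeneous.bot 𝒜) hd hf
    (by simpa using hnil)
  have hM : ⊤ ≤ Submodule.span k {y | ∃ (L : List (Fin r)) (j : Fin m), y = (L.map f).prod * w j} := by
    simpa using hM'
  refine ⟨f, hf, ?_, m, ee, w, hw, hM⟩
  -- algebraic independence by counting dimensions
  let φf : MvPolynomial (Fin r) k →ₐ[k] R := MvPolynomial.aeval f
  have hfin : φf.toRingHom.Finite := by
    algebraize [φf.toRingHom]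
    refine ⟨⟨Finset.univ.image w, eq_top_iff.mpr ?_⟩⟩
    intro x _
    have hx := hM (Submodule.mem_top (x := x))
    induction hx using Submodule.span_induction with
    | mem y hy =>
      obtain ⟨L, j, rfl⟩ := hy
      have hp : (L.map f).prod = φf (L.map MvPolynomial.X).prod := by
        rw [map_list_prod, List.map_map]
        congr 1
        exact List.map_congr_left fun i _ => (MvPolynomial.aeval_X f i).symm
      rw [hp]
      exact Submodule.smul_mem _ (L.map MvPolynomial.X).prod
        (Submodule.subset_span (by simp))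
    | zero => exact zero_mem _
    | add a b _ _ ha hb => exact add_mem (ha trivial) (hb trivial)
    | smul c a _ ha =>
      have : c • a = φf (MvPolynomial.C c) * a := by simp [φf, Algebra.smul_def]
      rw [this]
      exact Submodule.smul_mem _ (MvPolynomial.C c) (ha trivial)
  rw [algebraicIndependent_iff]
  intro P hP
  by_contra hP0
  have hker : RingHom.ker φf.toRingHom ≠ ⊥ := fun h => hP0 (by
    have : P ∈ RingHom.ker φf.toRingHom := hP
    rwa [h, Ideal.mem_bot] at this)
  have hdom : ringKrullDim (MvPolynomial (Fin r) k ⧸ RingHom.ker φf.toRingHom) = r := by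
    rw [← hr]
    refine ringKrullDim_eq_of_isIntegral (RingHom.kerLift φf.toRingHom) ?_
      (RingHom.kerLift_injective _)
    exact RingHom.IsIntegral.tower_top (Ideal.Quotient.mk (RingHom.ker φf.toRingHom))
      (RingHom.kerLift φf.toRingHom) hfin.to_isIntegral
  have hP' : P ∈ nonZeroDivisors (MvPolynomial (Fin r) k) := mem_nonZeroDivisors_of_ne_zero hP0
  have h1 := ringKrullDim_quotient_succ_le_of_nonZeroDivisor hP'
  have h2 : ringKrullDim (MvPolynomial (Fin r) k ⧸ RingHom.ker φf.toRingHom) ≤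
      ringKrullDim (MvPolynomial (Fin r) k ⧸ Ideal.span {P}) :=
    ringKrullDim_le_of_surjective (Ideal.Quotient.factor
      ((Ideal.span_singleton_le_iff_mem _).mpr hP)) (Ideal.Quotient.factor_surjective _)
  rw [hdom] at h2
  rw [MvPolynomial.ringKrullDim_of_isNoetherianRing, ringKrullDim_eq_zero_of_field, zero_add,
    Nat.card_eq_fintype_card, Fintype.card_fin] at h1
  have : ((r + 1 : ℕ) : WithBot ℕ∞) ≤ (r : ℕ) := by
    push_cast
    exact (add_le_add_left h2 1).trans (by simpa [add_comm] using h1)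
  have : r + 1 ≤ r := by exact_mod_cast this
  omega

end Groth.Agent.Segre.Param
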