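import Groth.Prelude.Def_CAlg
import Groth.Agent.Segre.Param
import Mathlib.RingTheory.Ideal.AssociatedPrime.Finiteness
import Mathlib.RingTheory.KrullDimension.Module
import Mathlib.RingTheory.Localization.AtPrime.Basic

set_option autoImplicit false
universe u v w
open RingTheory.Sequence

namespace Groth.Agent.Segre.CM

section Local

variable {L : Type u} [CommRing L] [IsLocalRing L]

lemma one_le_depth {n : ℕ} (h : ((n + 1 : ℕ) : ℕ∞) ≤ LocCoh.depth L L) :
    ∃ rs : List L, n < rs.length ∧ IsWeaklyRegular L rs ∧ ∀ r ∈ rs, r ∈ IsLocalRing.maximalIdeal L := by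
  by_contra hc
  push Not at hc
  rw [LocCoh.depth, LocCoh.idealDepth, if_neg (by
    rw [smul_eq_mul, Ideal.mul_top]; exact (IsLocalRing.maximalIdeal.isMaximal L).ne_top)] at h
  have : (⨆ (rs : List L) (_ : IsWeaklyRegular L rs ∧ ∀ r ∈ rs, r ∈ IsLocalRing.maximalIdeal L),
      (rs.length : ℕ∞)) ≤ (n : ℕ) := iSup₂_le fun rs hrs => by
    by_contra hlt
    obtain ⟨r, hr, hr'⟩ := hc rs (by exact_mod_cast not_le.mp hlt) hrs.1
    exact hr' (hrs.2 r hr)
  have := h.trans this
  norm_cast at this
  omega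

lemma exists_regular_of_cm [LocCoh.IsCohenMacaulayLocalRing L] {n : ℕ}
    (h : ((n + 1 : ℕ) : WithBot ℕ∞) ≤ ringKrullDim L) :
    ∃ rs : List L, n < rs.length ∧ IsWeaklyRegular L rs ∧ ∀ r ∈ rs, r ∈ IsLocalRing.maximalIdeal L := by
  refine one_le_depth ?_
  rw [← Module.supportDim_self_eq_ringKrullDim,
    LocCoh.IsCohenMacaulayLocalRing.supportDim_eq_depth] at h
  exact WithBot.coe_le_coe.mp h

/-- two-step depth: the socle of `L/(a)` vanishes -/
lemma mem_span_of_maximalIdeal_mul [LocCoh.IsCohenMacaulayLocalRing L]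
    (h2 : ((2 : ℕ) : WithBot ℕ∞) ≤ ringKrullDim L) {a z : L} (ha : ∀ x, a * x = 0 → x = 0)
    (ham : a ∈ IsLocalRing.maximalIdeal L) (N : ℕ)
    (hz : ∀ u ∈ IsLocalRing.maximalIdeal L ^ N, u * z ∈ Ideal.span {a}) : z ∈ Ideal.span {a} := by
  induction N generalizing z with
  | zero => simpa using hz 1 (by simp)
  | succ N ih =>
    suffices key : ∀ z, (∀ m ∈ IsLocalRing.maximalIdeal L, m * z ∈ Ideal.span {a}) →
        z ∈ Ideal.span {a} by
      refine ih fun u hu => key _ fun m hm => ?_
      rw [← mul_assoc]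
      exact hz _ (by rw [pow_succ']; exact Ideal.mul_mem_mul hm hu)
    clear ih hz z
    intro z hz
    obtain ⟨rs, hlen, hreg, hmem⟩ := exists_regular_of_cm (L := L) (n := 1) h2
    match rs, hlen, hreg, hmem with
    | a' :: b' :: rs, _, hreg, hmem =>
      rw [isWeaklyRegular_cons_iff] at hreg
      obtain ⟨ha', hreg'⟩ := hreg
      rw [isWeaklyRegular_cons_iff] at hreg'
      obtain ⟨hb', -⟩ := hreg'
      have ha'0 : ∀ x, a' * x = 0 → x = 0 := fun x hx => ha' (by
        show a' • x = a' • (0 : L)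
        rw [smul_eq_mul, smul_zero]; exact hx)
      have hb'0 : ∀ x, a' ∣ b' * x → a' ∣ x := by
        intro x hx
        have e : ∀ y : L, (Submodule.Quotient.mk y : QuotSMulTop a' L) = 0 ↔ a' ∣ y := by
          intro y
          rw [Submodule.Quotient.mk_eq_zero, Submodule.mem_smul_pointwise_iff_exists]
          exact ⟨fun ⟨w, _, hw⟩ => ⟨w, hw.symm⟩, fun ⟨w, hw⟩ => ⟨w, trivial, hw.symm⟩⟩
        have h0 : b' • (Submodule.Quotient.mk x : QuotSMulTop a' L) = b' • 0 := by
          rw [smul_zero, ← Submodule.Quotient.mk_smul, e]; exact hx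
        exact (e x).mp (hb' h0)
      obtain ⟨w, hw⟩ := Ideal.mem_span_singleton.mp (hz a' (hmem a' (by simp)))
      have hbw : a' ∣ b' * w := by
        obtain ⟨t, ht⟩ := Ideal.mem_span_singleton.mp (hz b' (hmem b' (by simp)))
        refine ⟨t, ?_⟩
        refine sub_eq_zero.mp (ha _ ?_)
        linear_combination a' * ht - b' * hw
      obtain ⟨w', rfl⟩ := hb'0 w hbw
      refine Ideal.mem_span_singleton.mpr ⟨w', sub_eq_zero.mp (ha'0 _ ?_)⟩
      linear_combination hw

end Local

variable {R : Type u} [CommRing R] [LocCoh.IsCohenMacaulayRing R]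

/-- associated primes of a Cohen-Macaulay ring are minimal -/
lemma isMin_of_isAssociatedPrime {p : Ideal R} (hp : p ∈ associatedPrimes R R) :
    p ∈ (⊥ : Ideal R).minimalPrimes := by
  haveI := hp.isPrime
  obtain ⟨-, x, hx⟩ := isAssociatedPrime_iff.mp hp
  haveI := LocCoh.IsCohenMacaulayRing.isCohenMacaulayLocalRing_localization p
  refine ⟨⟨inferInstance, bot_le⟩, fun q hq hle => ?_⟩
  by_contra hne
  have hlt : q < p := lt_of_le_of_ne hle fun h => hne h.ge
  have hht : (1 : ℕ∞) ≤ p.height := by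
    rw [ENat.one_le_iff_ne_zero]
    intro h0
    haveI := hq.1
    have := (Ideal.height_le_iff (p := p) (n := 0)).mp h0.le q hq.1 hlt
    exact absurd this (by simp)
  obtain ⟨rs, hlen, hreg, hmem⟩ := exists_regular_of_cm (L := Localization.AtPrime p) (n := 0) (by
    rw [IsLocalization.AtPrime.ringKrullDim_eq_height p]
    exact_mod_cast hht)
  match rs, hlen, hreg, hmem with
  | a :: rs, _, hreg, hmem =>
    rw [isWeaklyRegular_cons_iff] at hreg
    obtain ⟨⟨r, s⟩, hrs⟩ := IsLocalization.surj p.primeCompl a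
    have hrp : r ∈ p := by
      rw [← Localization.AtPrime.comap_maximalIdeal (I := p), Ideal.mem_comap, ← hrs]
      exact Ideal.mul_mem_right _ _ (hmem a (by simp))
    have hrx : r * x = 0 := by
      have : r ∈ Submodule.colon ⊥ {x} := hx ▸ hrp
      simpa [Submodule.mem_colon_singleton] using this
    have h0 : algebraMap R (Localization.AtPrime p) x = 0 := by
      refine hreg.1 ?_
      show a * _ = a • (0 : Localization.AtPrime p)
      rw [smul_zero]
      have := congrArg (algebraMap R (Localization.AtPrime p)) hrx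
      rw [map_mul, map_zero, ← hrs, mul_right_comm] at this
      exact (IsLocalization.map_units _ s).mul_left_eq_zero.mp this
    obtain ⟨c, hc⟩ := (IsLocalization.map_eq_zero_iff p.primeCompl _ x).mp h0
    refine c.2 (show (c : R) ∈ p from ?_)
    refine hx.ge ?_
    rw [Submodule.mem_colon_singleton]
    simpa using hc

/-- transfer along ring isomorphisms -/
lemma depth_congr {A : Type u} {B : Type v} [CommRing A] [CommRing B] [IsLocalRing A] [IsLocalRing B]
    (e : A ≃+* B) : LocCoh.depth A A = LocCoh.depth B B := by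
  have hA : IsLocalRing.maximalIdeal A • (⊤ : Submodule A A) ≠ ⊤ := by
    rw [smul_eq_mul, Ideal.mul_top]; exact (IsLocalRing.maximalIdeal.isMaximal A).ne_top
  have hB : IsLocalRing.maximalIdeal B • (⊤ : Submodule B B) ≠ ⊤ := by
    rw [smul_eq_mul, Ideal.mul_top]; exact (IsLocalRing.maximalIdeal.isMaximal B).ne_top
  rw [LocCoh.depth, LocCoh.depth, LocCoh.idealDepth, LocCoh.idealDepth, if_neg hA, if_neg hB]
  have key : ∀ rs : List A, IsWeaklyRegular A rs ↔ IsWeaklyRegular B (rs.map e) := fun rs =>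
    e.toAddEquiv.isWeaklyRegular_congr <| List.forall₂_map_right_iff.mpr <|
      List.forall₂_same.mpr fun r _ x => map_mul e r x
  have hm : ∀ r, e r ∈ IsLocalRing.maximalIdeal B ↔ r ∈ IsLocalRing.maximalIdeal A := fun r => by
    simp only [IsLocalRing.mem_maximalIdeal, mem_nonunits_iff, MulEquiv.isUnit_map]
  refine le_antisymm (iSup₂_le fun rs hrs => ?_) (iSup₂_le fun rs hrs => ?_)
  · refine le_iSup₂_of_le (rs.map e) ⟨(key rs).mp hrs.1, ?_⟩ (by simp)
    simp only [List.mem_map]
    rintro _ ⟨r, hr, rfl⟩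
    exact (hm r).mpr (hrs.2 r hr)
  · have hback : (rs.map e.symm).map e = rs := by
      rw [List.map_map]
      exact (List.map_congr_left fun x _ => e.apply_symm_apply x).trans (List.map_id rs)
    refine le_iSup₂_of_le (rs.map e.symm) ⟨(key _).mpr (by rw [hback]; exact hrs.1), ?_⟩ (by simp)
    simp only [List.mem_map]
    rintro _ ⟨r, hr, rfl⟩
    exact (hm _).mp (by simpa using hrs.2 r hr)

lemma cmLocal_congr {A : Type u} {B : Type v} [CommRing A] [CommRing B] (e : A ≃+* B)
    [LocCoh.IsCohenMacaulayLocalRing A] : LocCoh.IsCohenMacaulayLocalRing B := by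
  haveI : IsLocalRing B := e.isLocalRing
  haveI : IsNoetherianRing B := isNoetherianRing_of_ringEquiv A e
  refine { supportDim_eq_depth := ?_ }
  rw [Module.supportDim_self_eq_ringKrullDim, ← ringKrullDim_eq_of_ringEquiv e,
    ← Module.supportDim_self_eq_ringKrullDim, LocCoh.IsCohenMacaulayLocalRing.supportDim_eq_depth,
    depth_congr e]

lemma cm_congr {A : Type u} {B : Type v} [CommRing A] [CommRing B] (e : A ≃+* B)
    [LocCoh.IsCohenMacaulayRing A] : LocCoh.IsCohenMacaulayRing B := by
  haveI : IsNoetherianRing B := isNoetherianRing_of_ringEquiv A e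
  refine { isCohenMacaulayLocalRing_localization := fun p hp => ?_ }
  haveI := LocCoh.IsCohenMacaulayRing.isCohenMacaulayLocalRing_localization (p.comap e.toRingHom)
  exact cmLocal_congr (IsLocalization.ringEquivOfRingEquiv
    (M := (p.comap e.toRingHom).primeCompl) (T := p.primeCompl)
    (Localization.AtPrime (p.comap e.toRingHom)) (Localization.AtPrime p) e (by
      ext x
      simp only [Submonoid.mem_map, Ideal.mem_primeCompl_iff, Ideal.mem_comap]
      exact ⟨fun ⟨y, hy, hxy⟩ => hxy ▸ hy, fun hx => ⟨e.symm x, by simpa using hx, by simp⟩⟩))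

end Groth.Agent.Segre.CM
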