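import Groth.Agent.Segre.Poly
import Mathlib.RingTheory.TensorProduct.MvPolynomial
import Mathlib.RingTheory.TensorProduct.Maps
import Mathlib.RingTheory.Flat.Basic
import Mathlib.RingTheory.FiniteStability
import Mathlib.Data.List.FinRange
import Mathlib.Data.Set.Finite.List

set_option autoImplicit false
universe u

namespace Groth.Agent.Segre.Diag

open TensorProduct DirectSum

variable {k : Type u} [Field k]
variable {R : Type u} [CommRing R] [Algebra k R] (𝒜 : ℤ → Submodule k R) [GradedAlgebra 𝒜]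
variable {S : Type u} [CommRing S] [Algebra k S] (ℬ : ℤ → Submodule k S) [GradedAlgebra ℬ]

noncomputable def f₀ (n : ℤ) : 𝒜 n →ₗ[k] (S →ₗ[k] R ⊗[k] S) :=
  ((TensorProduct.mk k R S).compl₂ (GradedAlgebra.proj ℬ n)).comp (𝒜 n).subtype

/-- the diagonal projection -/
noncomputable def π : R ⊗[k] S →ₗ[k] R ⊗[k] S :=
  TensorProduct.lift ((DirectSum.toModule k ℤ _ (f₀ 𝒜 ℬ)).comp
    (DirectSum.decomposeLinearEquiv 𝒜).toLinearMap)

variable {𝒜 ℬ}

lemma π_tmul {n j : ℤ} {a : R} {b : S} (ha : a ∈ 𝒜 n) (hb : b ∈ ℬ j) :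
    π 𝒜 ℬ (a ⊗ₜ[k] b) = if j = n then a ⊗ₜ[k] b else 0 := by
  have : π 𝒜 ℬ (a ⊗ₜ[k] b) = a ⊗ₜ[k] GradedAlgebra.proj ℬ n b := by
    simp only [π, TensorProduct.lift.tmul, LinearMap.comp_apply]
    rw [show (DirectSum.decomposeLinearEquiv 𝒜).toLinearMap a = DirectSum.lof k ℤ (fun i => 𝒜 i) n ⟨a, ha⟩
      from DirectSum.decompose_of_mem 𝒜 ha, DirectSum.toModule_lof]
    rfl
  rw [this]
  simp only [GradedAlgebra.proj_apply]
  split_ifs with h
  · subst h; rw [DirectSum.decompose_of_mem_same ℬ hb]
  · rw [DirectSum.decompose_of_mem_ne ℬ hb h, TensorProduct.tmul_zero]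

lemma list_prod_mem {ι : Type*} {d : ℕ} {f : ι → R} (hf : ∀ i, f i ∈ 𝒜 (d : ℤ)) (L : List ι) :
    (L.map f).prod ∈ 𝒜 ((d : ℤ) * L.length) := by
  induction L with
  | nil => simpa using SetLike.one_mem_graded 𝒜
  | cons i L ih =>
    rw [List.map_cons, List.prod_cons, List.length_cons, Nat.cast_succ, mul_add, mul_one, add_comm]
    exact SetLike.mul_mem_graded (hf i) ih

theorem segre_dim (hposR : ∀ n : ℤ, n < 0 → 𝒜 n = ⊥) (h0R : 𝒜 0 = Submodule.span k {(1 : R)})
    [Algebra.FiniteType k R]
    (hposS : ∀ n : ℤ, n < 0 → ℬ n = ⊥) (h0S : ℬ 0 = Submodule.span k {(1 : S)})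
    [Algebra.FiniteType k S]
    {T : Type u} [CommRing T] [Algebra k T] (𝒯 : ℤ → Submodule k T) [GradedAlgebra 𝒯]
    (ψ : T →ₐ[k] TensorProduct k R S) (hψ : Function.Injective ψ)
    (hdegT : ∀ n : ℤ, (𝒯 n).map ψ.toLinearMap =
      Submodule.span k {x : TensorProduct k R S | ∃ a ∈ 𝒜 n, ∃ b ∈ ℬ n, x = a ⊗ₜ[k] b})
    (r s : ℕ) (hr : ringKrullDim R = ((r + 1 : ℕ) : WithBot ℕ∞))
    (hs : ringKrullDim S = ((s + 1 : ℕ) : WithBot ℕ∞)) :
    Algebra.FiniteType k T ∧ ringKrullDim T = ((r + s + 1 : ℕ) : WithBot ℕ∞) := by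
  classical
  obtain ⟨dR, hdR, hR⟩ := Param.exists_parameters hposR h0R (r + 1) hr
  obtain ⟨dS, hdS, hS⟩ := Param.exists_parameters hposS h0S (s + 1) hs
  obtain ⟨f, hf, hfi, mR, eR, w, hw, hspanR⟩ := hR dS hdS
  obtain ⟨g, hg, hgi, mS, eS, v, hv, hspanS⟩ := hS dR hdR
  rw [mul_comm dS dR] at hg
  let d : ℕ := dR * dS
  have hd : 0 < d := Nat.mul_pos hdR hdS
  have hex : ∀ q : Fin (r + 1) × Fin (s + 1), ∃ t, ψ t = f q.1 ⊗ₜ[k] g q.2 := fun q => by
    have : f q.1 ⊗ₜ[k] g q.2 ∈ (𝒯 (d : ℤ)).map ψ.toLinearMap := by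
      rw [hdegT]; exact Submodule.subset_span ⟨_, hf _, _, hg _, rfl⟩
    obtain ⟨t, -, ht⟩ := this
    exact ⟨t, ht⟩
  choose c hc using hex
  let Φ : MvPolynomial (Fin (r + 1) × Fin (s + 1)) k →ₐ[k] T := MvPolynomial.aeval c
  -- the elements spanning `R ⊗ S`
  let u : List (Fin (r + 1)) × List (Fin (s + 1)) × Fin mR × Fin mS → R ⊗[k] S := fun x =>
    ((x.1.map f).prod * w x.2.2.1) ⊗ₜ[k] ((x.2.1.map g).prod * v x.2.2.2)
  let bal : List (Fin (r + 1)) × List (Fin (s + 1)) × Fin mR × Fin mS → Prop := fun x =>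
    (d : ℤ) * x.2.1.length + eS x.2.2.2 = (d : ℤ) * x.1.length + eR x.2.2.1
  have hπu : ∀ x, π 𝒜 ℬ (u x) = if bal x then u x else 0 := fun x =>
    π_tmul (SetLike.mul_mem_graded (list_prod_mem hf _) (hw _))
      (SetLike.mul_mem_graded (list_prod_mem hg _) (hv _))
  have hspan : ∀ y : R ⊗[k] S, y ∈ Submodule.span k (Set.range u) := by
    intro y
    induction y using TensorProduct.induction_on with
    | zero => exact zero_mem _
    | add a b ha hb => exact add_mem ha hb
    | tmul a b =>
      have ha := hspanR (Submodule.mem_top (x := a))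
      induction ha using Submodule.span_induction with
      | mem a ha =>
        obtain ⟨L, i, rfl⟩ := ha
        have hb := hspanS (Submodule.mem_top (x := b))
        induction hb using Submodule.span_induction with
        | mem b hb =>
          obtain ⟨M, j, rfl⟩ := hb
          exact Submodule.subset_span ⟨(L, M, i, j), rfl⟩
        | zero => rw [tmul_zero]; exact zero_mem _
        | add x y _ _ hx hy => rw [tmul_add]; exact add_mem hx hy
        | smul t x _ hx => rw [tmul_smul]; exact Submodule.smul_mem _ t hx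
      | zero => rw [zero_tmul]; exact zero_mem _
      | add x y _ _ hx hy => rw [add_tmul]; exact add_mem hx hy
      | smul t x _ hx => rw [← smul_tmul']; exact Submodule.smul_mem _ t hx
  -- finiteness
  let K : ℕ := Finset.univ.sup fun p : Fin mR × Fin mS => (eS p.2 - eR p.1).natAbs
  let E : Set T := {t | ∃ x, bal x ∧ x.1.length ≤ K ∧ x.2.1.length ≤ K ∧ ψ t = u x}
  have hEfin : E.Finite := by
    have hfin : ((fun x => u x) ''
        ({L | L.length ≤ K} ×ˢ ({M | M.length ≤ K} ×ˢ (Set.univ : Set (Fin mR × Fin mS))))).Finite :=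
      ((List.finite_length_le _ K).prod ((List.finite_length_le _ K).prod Set.finite_univ)).image _
    refine (hfin.preimage hψ.injOn).subset ?_
    rintro t ⟨x, -, h1, h2, h3⟩
    exact ⟨x, ⟨h1, h2, trivial⟩, h3.symm⟩
  have hΦfin : Φ.toRingHom.Finite := by
    algebraize [Φ.toRingHom]
    let N : Submodule (MvPolynomial (Fin (r + 1) × Fin (s + 1)) k) T := Submodule.span _ E
    have hbal : ∀ n : ℕ, ∀ x, x.1.length = n → bal x → ∃ t ∈ N, ψ t = u x := by
      intro n
      induction n using Nat.strong_induction_on with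
      | _ n ih =>
      rintro ⟨L, M, a, b⟩ hn hx
      by_cases hK : L.length ≤ K ∧ M.length ≤ K
      · have : u (L, M, a, b) ∈ (𝒯 ((d : ℤ) * L.length + eR a)).map ψ.toLinearMap := by
          rw [hdegT]
          refine Submodule.subset_span ⟨_, SetLike.mul_mem_graded (list_prod_mem hf L) (hw a), _, ?_, rfl⟩
          have := SetLike.mul_mem_graded (list_prod_mem hg M) (hv b)
          rwa [show (d : ℤ) * L.length + eR a = (d : ℤ) * M.length + eS b from hx.symm]
        obtain ⟨t, -, ht⟩ := this
        exact ⟨t, Submodule.subset_span ⟨_, hx, hK.1, hK.2, ht⟩, ht⟩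
      · have hab : (eS b - eR a).natAbs ≤ K :=
          Finset.le_sup (f := fun p : Fin mR × Fin mS => (eS p.2 - eR p.1).natAbs) (Finset.mem_univ (a, b))
        have hx' : (d : ℤ) * M.length + eS b = (d : ℤ) * L.length + eR a := hx
        match L, M, hn, hx, hx', hK with
        | [], M, _, _, hx', hK =>
          refine absurd ⟨Nat.zero_le _, ?_⟩ hK
          have : (M.length : ℤ) ≤ d * M.length := le_mul_of_one_le_left (by omega) (by omega)
          simp at hx'
          omega
        | L, [], _, _, hx', hK =>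
          refine absurd ⟨?_, Nat.zero_le _⟩ hK
          have : (L.length : ℤ) ≤ d * L.length := le_mul_of_one_le_left (by omega) (by omega)
          simp at hx'
          omega
        | i :: L', j :: M', hn, hx, hx', _ =>
          obtain ⟨t, ht, hte⟩ := ih L'.length (by simp at hn; omega) (L', M', a, b) rfl (by
            show (d : ℤ) * M'.length + eS b = (d : ℤ) * L'.length + eR a
            simp only [List.length_cons] at hx'
            push_cast at hx'
            linarith)
          refine ⟨c (i, j) * t, ?_, ?_⟩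
          · have : c (i, j) * t = (MvPolynomial.X (i, j) : MvPolynomial _ k) • t := by
              rw [Algebra.smul_def]
              show _ = Φ (MvPolynomial.X (i, j)) * t
              simp [Φ]
            rw [this]
            exact Submodule.smul_mem _ _ ht
          · rw [map_mul, hc, hte]
            simp [u, Algebra.TensorProduct.tmul_mul_tmul, mul_assoc]
    refine ⟨⟨hEfin.toFinset, ?_⟩⟩
    rw [Set.Finite.coe_toFinset, eq_top_iff]
    rintro t -
    -- the image of `π` lands in the image of `N`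
    have hπN : ∀ y : R ⊗[k] S, ∃ t ∈ N, ψ t = π 𝒜 ℬ y := by
      intro y
      induction hspan y using Submodule.span_induction with
      | mem y hy =>
        obtain ⟨x, rfl⟩ := hy
        rw [hπu]
        split_ifs with hx
        · exact hbal _ x rfl hx
        · exact ⟨0, zero_mem _, map_zero ψ⟩
      | zero => exact ⟨0, zero_mem _, by simp⟩
      | add a b _ _ ha hb =>
        obtain ⟨ta, hta, ea⟩ := ha
        obtain ⟨tb, htb, eb⟩ := hb
        exact ⟨ta + tb, add_mem hta htb, by simp [ea, eb]⟩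
      | smul e a _ ha =>
        obtain ⟨ta, hta, ea⟩ := ha
        refine ⟨e • ta, ?_, by simp [ea]⟩
        have : e • ta = (MvPolynomial.C e : MvPolynomial (Fin (r + 1) × Fin (s + 1)) k) • ta := by
          rw [Algebra.smul_def e ta, Algebra.smul_def]
          show _ = Φ (MvPolynomial.C e) * ta
          simp [Φ]
        rw [this]
        exact Submodule.smul_mem _ _ hta
    have hfix : π 𝒜 ℬ (ψ t) = ψ t := by
      induction t using DirectSum.Decomposition.inductionOn 𝒯 with
      | zero => simp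
      | add a a' h h' => simp [h, h']
      | homogeneous t =>
        rename_i n
        have : ψ t ∈ (𝒯 n).map ψ.toLinearMap := Submodule.mem_map_of_mem (f := ψ.toLinearMap) t.2
        rw [hdegT] at this
        generalize ψ (t : T) = y at this ⊢
        induction this using Submodule.span_induction with
        | mem x hx => obtain ⟨a, ha, b, hb, rfl⟩ := hx; rw [π_tmul ha hb, if_pos rfl]
        | zero => simp
        | add x y _ _ hx hy => simp [hx, hy]
        | smul e x _ hx => simp [hx]
    obtain ⟨t', ht', e⟩ := hπN (ψ t)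
    rw [hfix] at e
    exact hψ e ▸ ht'
  refine ⟨?_, ?_⟩
  · exact RingHom.finiteType_algebraMap.mp (Φ.comp_algebraMap ▸
      hΦfin.finiteType.comp (RingHom.finiteType_algebraMap.mpr inferInstance))
  -- comparison with the polynomial case
  let Ψ : MvPolynomial (Fin (r + 1) × Fin (s + 1)) k →ₐ[k] Poly.P k r s :=
    MvPolynomial.aeval fun q => MvPolynomial.X (Sum.inl q.1) * MvPolynomial.X (Sum.inr q.2)
  let e := MvPolynomial.tensorEquivSum k (Fin (r + 1)) (Fin (s + 1)) k
  let φ : Poly.P k r s →ₐ[k] R ⊗[k] S :=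
    (Algebra.TensorProduct.map (MvPolynomial.aeval f) (MvPolynomial.aeval g)).comp e.symm.toAlgHom
  have hφ : Function.Injective φ := by
    intro a b hab
    have h := TensorProduct.map_injective_of_flat_flat (MvPolynomial.aeval f).toLinearMap
      (MvPolynomial.aeval g).toLinearMap hfi hgi
    exact e.symm.injective (h hab)
  have hcomp : ψ.comp Φ = φ.comp Ψ := by
    refine MvPolynomial.algHom_ext fun q => ?_
    have he : e.symm (MvPolynomial.X (Sum.inl q.1) * MvPolynomial.X (Sum.inr q.2)) =
        MvPolynomial.X q.1 ⊗ₜ[k] MvPolynomial.X q.2 := by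
      rw [AlgEquiv.symm_apply_eq]
      exact (MvPolynomial.tensorEquivSum_X_tmul_X ..).symm
    simp [Φ, Ψ, φ, hc, he, AlgHom.comp_apply]
  have hker : RingHom.ker Φ.toRingHom = RingHom.ker Ψ.toRingHom := by
    ext p
    have := AlgHom.congr_fun hcomp p
    constructor <;> intro h
    · exact hφ (by rw [map_zero]; exact (this.symm.trans (by rw [AlgHom.comp_apply, show Φ p = 0 from h, map_zero])))
    · exact hψ (by rw [map_zero]; exact (this.trans (by rw [AlgHom.comp_apply, show Ψ p = 0 from h, map_zero])))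
  rw [← Param.ringKrullDim_eq_of_isIntegral (RingHom.kerLift Φ.toRingHom)
    (RingHom.IsIntegral.tower_top (Ideal.Quotient.mk _) _ hΦfin.to_isIntegral)
    (RingHom.kerLift_injective _), hker, ← Poly.ringKrullDim_D k r s]
  have hD : Poly.D k r s = Ψ.range := Algebra.adjoin_range_eq_range_aeval k _
  rw [ringKrullDim_eq_of_ringEquiv (RingHom.quotientKerEquivRange Ψ.toRingHom), hD]
  rfl

end Groth.Agent.Segre.Diag
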