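import Groth.Agent.Segre.One
import Mathlib.LinearAlgebra.Dual.Lemmas
import Mathlib.RingTheory.Localization.AtPrime.Basic

set_option autoImplicit false
universe u
open DirectSum TensorProduct

namespace Groth.Agent.Segre.Main

variable {k : Type u} [Field k] {R : Type u} [CommRing R] [Algebra k R] {𝒜 : ℤ → Submodule k R}
  [GradedAlgebra 𝒜] {S : Type u} [CommRing S] [Algebra k S] {ℬ : ℤ → Submodule k S} [GradedAlgebra ℬ]
  {T : Type u} [CommRing T] [Algebra k T] {𝒯 : ℤ → Submodule k T} [GradedAlgebra 𝒯]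
  (ψ : T →ₐ[k] R ⊗[k] S) (hψ : Function.Injective ψ)
  (hdegT : ∀ n : ℤ, (𝒯 n).map ψ.toLinearMap =
    Submodule.span k {x : R ⊗[k] S | ∃ a ∈ 𝒜 n, ∃ b ∈ ℬ n, x = a ⊗ₜ[k] b})

include hdegT

lemma exists_preimage {n : ℤ} {a : R} {b : S} (ha : a ∈ 𝒜 n) (hb : b ∈ ℬ n) :
    ∃ t ∈ 𝒯 n, ψ t = a ⊗ₜ[k] b := by
  have : a ⊗ₜ[k] b ∈ (𝒯 n).map ψ.toLinearMap := by
    rw [hdegT]; exact Submodule.subset_span ⟨_, ha, _, hb, rfl⟩
  obtain ⟨t, ht, hte⟩ := this
  exact ⟨t, ht, hte⟩

include hψ

lemma posT (hposR : ∀ n : ℤ, n < 0 → 𝒜 n = ⊥) : ∀ n : ℤ, n < 0 → 𝒯 n = ⊥ := by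
  intro n hn
  rw [eq_bot_iff]
  intro t ht
  have : ψ t ∈ (𝒯 n).map ψ.toLinearMap := Submodule.mem_map_of_mem (f := ψ.toLinearMap) ht
  rw [hdegT] at this
  have h0 : ψ t = 0 := by
    refine (Submodule.mem_bot k).mp ((Submodule.span_le.mpr ?_) this)
    rintro _ ⟨a, ha, b, -, rfl⟩
    simp [(Submodule.mem_bot k).mp ((hposR n hn).le ha)]
  exact (Submodule.mem_bot k).mpr (hψ (h0.trans (map_zero ψ).symm))

lemma zeroT (h0R : 𝒜 0 = Submodule.span k {(1 : R)}) (h0S : ℬ 0 = Submodule.span k {(1 : S)}) :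
    𝒯 0 = Submodule.span k {(1 : T)} := by
  refine le_antisymm (fun t ht => ?_)
    (Submodule.span_le.mpr (Set.singleton_subset_iff.mpr (SetLike.one_mem_graded 𝒯)))
  have : ψ t ∈ (𝒯 0).map ψ.toLinearMap := Submodule.mem_map_of_mem (f := ψ.toLinearMap) ht
  rw [hdegT] at this
  have h : ψ t ∈ Submodule.span k {(1 : R ⊗[k] S)} := by
    refine (Submodule.span_le.mpr ?_) this
    rintro _ ⟨a, ha, b, hb, rfl⟩
    obtain ⟨c, rfl⟩ := Submodule.mem_span_singleton.mp (h0R.le ha)
    obtain ⟨c', rfl⟩ := Submodule.mem_span_singleton.mp (h0S.le hb)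
    exact Submodule.mem_span_singleton.mpr ⟨c * c', by
      rw [TensorProduct.tmul_smul, ← TensorProduct.smul_tmul', smul_smul,
        Algebra.TensorProduct.one_def, mul_comm]⟩
  obtain ⟨c, hc⟩ := Submodule.mem_span_singleton.mp h
  exact Submodule.mem_span_singleton.mpr ⟨c, hψ (by rw [map_smul, map_one]; exact hc)⟩

/-- the polynomial case -/
lemma nonempty_ringEquiv (hposR : ∀ n : ℤ, n < 0 → 𝒜 n = ⊥) (hposS : ∀ n : ℤ, n < 0 → ℬ n = ⊥)
    (h0R : 𝒜 0 = Submodule.span k {(1 : R)})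
    (hstd : Ideal.span (⋃ n ∈ Set.Ioi (0 : ℤ), (𝒜 n : Set R)) = Ideal.span ((𝒜 1 : Submodule k R) : Set R))
    (e : R ≃ₐ[k] Polynomial k) : Nonempty (S ≃+* T) := by
  classical
  obtain ⟨l, hl, hpiece, hbij⟩ := One.exists_generator_of_polynomial hposR h0R hstd e
  let χ : R →ₐ[k] k :=
    (Polynomial.aeval (1 : k)).comp (AlgEquiv.ofBijective (Polynomial.aeval (R := k) l) hbij).symm.toAlgHom
  have hχ : χ l = 1 := by
    have : (AlgEquiv.ofBijective (Polynomial.aeval (R := k) l) hbij).symm l = Polynomial.X := by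
      rw [AlgEquiv.symm_apply_eq]; simp
    simp [χ, this]
  let σ : T →ₐ[k] S :=
    ((Algebra.TensorProduct.lid k S).toAlgHom.comp
      (Algebra.TensorProduct.map χ (AlgHom.id k S))).comp ψ
  -- normal form of homogeneous elements
  have hnf : ∀ (i : ℤ) (t : T), t ∈ 𝒯 i → σ t ∈ ℬ i ∧ ∀ n : ℕ, i = n → ψ t = (l ^ n) ⊗ₜ[k] σ t := by
    intro i t ht
    have : ψ t ∈ (𝒯 i).map ψ.toLinearMap := Submodule.mem_map_of_mem (f := ψ.toLinearMap) ht
    rw [hdegT] at this
    have hσ : ∀ t, σ t = Algebra.TensorProduct.lid k S (Algebra.TensorProduct.map χ (AlgHom.id k S) (ψ t)) :=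
      fun _ => rfl
    rw [hσ]
    generalize ψ t = y at this ⊢
    induction this using Submodule.span_induction with
    | mem y hy =>
      obtain ⟨a, ha, b, hb, rfl⟩ := hy
      refine ⟨?_, fun n hn => ?_⟩
      · simp only [Algebra.TensorProduct.map_tmul, AlgHom.coe_id, id_eq, Algebra.TensorProduct.lid_tmul]
        exact Submodule.smul_mem _ _ hb
      · subst hn
        obtain ⟨c, rfl⟩ := hpiece n a ha
        simp [hχ, ← Algebra.smul_def, TensorProduct.smul_tmul]
    | zero => exact ⟨by simp, fun n _ => by simp⟩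
    | add y z _ _ hy hz =>
      refine ⟨by rw [map_add, map_add]; exact add_mem hy.1 hz.1, fun n hn => ?_⟩
      rw [map_add, map_add, TensorProduct.tmul_add, ← hy.2 n hn, ← hz.2 n hn]
    | smul c y _ hy =>
      refine ⟨by rw [map_smul, map_smul]; exact Submodule.smul_mem _ c hy.1, fun n hn => ?_⟩
      rw [map_smul, map_smul, TensorProduct.tmul_smul, ← hy.2 n hn]
  refine ⟨(RingEquiv.ofBijective σ.toRingHom ⟨?_, ?_⟩).symm⟩
  · rw [injective_iff_map_eq_zero]
    intro t ht
    rw [← sum_support_decompose 𝒯 t]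
    refine Finset.sum_eq_zero fun i _ => ?_
    have hdec : σ (decompose 𝒯 t i : T) = 0 := by
      have e : ∀ u : T, (decompose ℬ (σ u) i : S) = σ (decompose 𝒯 u i : T) := by
        intro u
        induction u using DirectSum.Decomposition.inductionOn 𝒯 with
        | zero => simp
        | add a b ha hb => simp [decompose_add, ha, hb]
        | homogeneous a =>
          rename_i j
          by_cases h : j = i
          · subst h
            rw [decompose_of_mem_same ℬ (hnf j a a.2).1, decompose_of_mem_same 𝒯 a.2]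
          · rw [decompose_of_mem_ne ℬ (hnf j a a.2).1 h, decompose_of_mem_ne 𝒯 a.2 h, map_zero]
      rw [← e t, show σ t = 0 from ht]
      simp
    rcases lt_or_ge i 0 with h | h
    · exact (Submodule.mem_bot k).mp ((posT ψ hψ hdegT hposR i h).le (SetLike.coe_mem _))
    · lift i to ℕ using h
      refine hψ ?_
      rw [map_zero, (hnf _ _ (SetLike.coe_mem _)).2 i rfl, hdec, tmul_zero]
  · intro b
    induction b using DirectSum.Decomposition.inductionOn ℬ with
    | zero => exact ⟨0, map_zero _⟩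
    | add a b ha hb =>
      obtain ⟨x, rfl⟩ := ha
      obtain ⟨y, rfl⟩ := hb
      exact ⟨x + y, map_add _ x y⟩
    | homogeneous b =>
      rename_i i
      rcases lt_or_ge i 0 with h | h
      · exact ⟨0, by rw [map_zero]; exact ((Submodule.mem_bot k).mp ((hposS i h).le b.2)).symm⟩
      · lift i to ℕ using h
        have hmem : l ^ i ∈ 𝒜 (i : ℤ) := by
          have := SetLike.pow_mem_graded i hl
          rwa [nsmul_eq_mul, mul_one] at this
        obtain ⟨t, ht, hte⟩ := exists_preimage ψ hdegT hmem b.2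
        refine ⟨t, ?_⟩
        show Algebra.TensorProduct.lid k S (Algebra.TensorProduct.map χ (AlgHom.id k S) (ψ t)) = b
        simp [hte, hχ]

/-- the non-polynomial direction -/
lemma nonempty_polynomial_of_cm [LocCoh.IsCohenMacaulayRing R] [LocCoh.IsCohenMacaulayRing S]
    [LocCoh.IsCohenMacaulayRing T]
    (hposR : ∀ n : ℤ, n < 0 → 𝒜 n = ⊥) (h0R : 𝒜 0 = Submodule.span k {(1 : R)}) [Algebra.FiniteType k R]
    (hposS : ∀ n : ℤ, n < 0 → ℬ n = ⊥) (h0S : ℬ 0 = Submodule.span k {(1 : S)}) [Algebra.FiniteType k S]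
    (hstdR : Ideal.span (⋃ n ∈ Set.Ioi (0 : ℤ), (𝒜 n : Set R)) = Ideal.span ((𝒜 1 : Submodule k R) : Set R))
    (hstdS : Ideal.span (⋃ n ∈ Set.Ioi (0 : ℤ), (ℬ n : Set S)) = Ideal.span ((ℬ 1 : Submodule k S) : Set S))
    (hr : ringKrullDim R = 1) (hs : 2 ≤ ringKrullDim S) : Nonempty (R ≃ₐ[k] Polynomial k) := by
  classical
  haveI : Nontrivial R := by
    rw [← not_subsingleton_iff_nontrivial]
    intro h
    simp [ringKrullDim_eq_bot_of_subsingleton] at hr
  haveI : Nontrivial S := by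
    rw [← not_subsingleton_iff_nontrivial]
    intro h
    rw [ringKrullDim_eq_bot_of_subsingleton] at hs
    exact absurd hs (not_le.mpr (WithBot.bot_lt_coe _))
  -- the dimension of `S` is a natural number
  obtain ⟨m, gS, hgi, hgf⟩ := exists_finite_inj_algHom_of_fg k S
  have hdimS : ringKrullDim S = ((m : ℕ) : WithBot ℕ∞) := by
    rw [← Param.ringKrullDim_eq_of_isIntegral gS.toRingHom hgf.to_isIntegral hgi,
      MvPolynomial.ringKrullDim_of_isNoetherianRing, ringKrullDim_eq_zero_of_field, zero_add,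
      Nat.card_eq_fintype_card, Fintype.card_fin]
  have hm : 2 ≤ m := by
    rw [hdimS] at hs
    exact_mod_cast hs
  obtain ⟨m', rfl⟩ : ∃ m', m = m' + 1 := Nat.exists_eq_succ_of_ne_zero (by omega)
  obtain ⟨hFT, hdimT⟩ := Diag.segre_dim hposR h0R hposS h0S 𝒯 ψ hψ hdegT 0 m'
    (by rw [hr]; rfl) hdimS
  haveI : IsNoetherianRing T := inferInstance
  have hposT := posT ψ hψ hdegT hposR
  have h0T := zeroT ψ hψ hdegT h0R h0S
  have hT2 : ((2 : ℕ) : WithBot ℕ∞) ≤ ringKrullDim T := by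
    rw [hdimT]
    exact_mod_cast (by omega : 2 ≤ 0 + m' + 1)
  haveI : Nontrivial T := by
    rw [← not_subsingleton_iff_nontrivial]
    intro h
    rw [ringKrullDim_eq_bot_of_subsingleton] at hT2
    exact absurd hT2 (not_le.mpr (WithBot.bot_lt_coe _))
  -- homogeneous nonzerodivisors of the same degree
  obtain ⟨d₁, hd₁, x₀, hx₀, hx₀n⟩ := One.exists_nzd hposR h0R hr.ge
  obtain ⟨d₂, hd₂, y₀, hy₀, hy₀n⟩ := One.exists_nzd hposS h0S
    (le_trans (by exact_mod_cast (by omega : (1 : ℕ) ≤ 2)) hs)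
  let d := d₁ * d₂
  have hd : 0 < d := Nat.mul_pos hd₁ hd₂
  let x := x₀ ^ d₂
  let y := y₀ ^ d₁
  have hx : x ∈ 𝒜 (d : ℤ) := by
    have := SetLike.pow_mem_graded d₂ hx₀
    rwa [nsmul_eq_mul, ← Nat.cast_mul, mul_comm d₂ d₁] at this
  have hy : y ∈ ℬ (d : ℤ) := by
    have := SetLike.pow_mem_graded d₁ hy₀
    rwa [nsmul_eq_mul, ← Nat.cast_mul] at this
  have pown : ∀ {A : Type u} [CommRing A] (a : A), (∀ z, a * z = 0 → z = 0) →
      ∀ (j : ℕ) (z : A), a ^ j * z = 0 → z = 0 := by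
    intro A _ a ha j
    induction j with
    | zero => simp
    | succ j ih => intro z hz; rw [pow_succ, mul_assoc] at hz; exact ha z (ih _ hz)
  have hxn : ∀ z, x * z = 0 → z = 0 := pown x₀ hx₀n d₂
  have hyn : ∀ z, y * z = 0 → z = 0 := pown y₀ hy₀n d₁
  -- the radical of `(x)` is the irrelevant ideal
  haveI : IsNoetherianRing R := inferInstance
  have hrad : Param.Plus 𝒜 ≤ (Ideal.span {x}).radical := by
    intro z hz
    rw [Ideal.radical_eq_sInf, Ideal.mem_sInf]
    rintro q ⟨hq, hqp⟩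
    obtain ⟨q', hq', hq'q⟩ := Ideal.exists_minimalPrimes_le hq
    have hq'P := One.minimalPrime_le_plus hposR h0R
      (Ideal.homogeneous_span 𝒜 {x} (by rintro a rfl; exact ⟨_, hx⟩)) hq'
    rcases eq_or_lt_of_le hq'P with h | h
    · exact hq'q (h ▸ hz)
    exfalso
    haveI := hq'.isPrime
    obtain ⟨p, hp, hpq'⟩ := Ideal.exists_minimalPrimes_le (bot_le : (⊥ : Ideal R) ≤ q')
    have hxq' : x ∈ q' := hq'.le (Ideal.mem_span_singleton_self x)
    have hne : p ≠ q' := fun hpe => by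
      have hdisj := Ideal.disjoint_nonZeroDivisors_of_mem_minimalPrimes (p := p) (by simpa [minimalPrimes] using hp)
      exact Set.disjoint_left.mp hdisj (show x ∈ (p : Set R) from hpe ▸ hxq')
        (mem_nonZeroDivisors_iff_right.mpr fun z hz' => hxn z (by rw [mul_comm]; exact hz'))
    haveI := hp.isPrime
    haveI hPp := (One.plus_isMaximal hposR h0R).isPrime
    have h1 := Ideal.height_add_one_le_of_lt_of_isPrime (lt_of_le_of_ne hpq' hne)
    have h2 := Ideal.height_add_one_le_of_lt_of_isPrime h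
    have h3 : ((Param.Plus 𝒜).height : WithBot ℕ∞) ≤ ((1 : ℕ∞) : WithBot ℕ∞) :=
      Ideal.height_le_ringKrullDim_of_isPrime.trans (by rw [hr]; rfl)
    have h4 : (q'.height + 1 : ℕ∞) ≤ 1 := h2.trans (WithBot.coe_le_coe.mp h3)
    have h5 : (1 : ℕ∞) ≤ q'.height := le_trans le_add_self h1
    have h6 : (1 : ℕ∞) + 1 ≤ 1 := le_trans (by gcongr) h4
    norm_num at h6
  obtain ⟨N, hN⟩ := Ideal.exists_pow_le_of_le_radical_of_fg hrad (IsNoetherian.noetherian _)
  -- main claim
  refine One.nonempty_polynomial hposR h0R hstdR hd hx hxn fun n hn a ha => ?_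
  obtain ⟨j, rfl⟩ : ∃ j, n = j + d := ⟨n - d, by omega⟩
  obtain ⟨b, hb, hb0⟩ : ∃ b ∈ ℬ (j : ℤ), b ≠ 0 := by
    by_contra hcon
    push Not at hcon
    have hall : ∀ i : ℕ, ∀ b ∈ ℬ ((j + i : ℕ) : ℤ), b = 0 := by
      intro i
      induction i with
      | zero => exact fun b hb => hcon b (by simpa using hb)
      | succ i ih =>
        intro b hb
        have h := One.piece_eq_mul hstdS (j + i) hb
        refine (Submodule.mem_bot k).mp ((Submodule.span_le.mpr ?_) h)
        rintro _ ⟨l, _, u, hu, rfl⟩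
        simp [ih u hu]
    have hy1 : y ^ (j + 1) ∈ ℬ ((j + ((j + 1) * d - j) : ℕ) : ℤ) := by
      have := SetLike.pow_mem_graded (j + 1) hy
      rw [nsmul_eq_mul, ← Nat.cast_mul] at this
      rwa [Nat.add_sub_cancel' ((Nat.le_succ j).trans (Nat.le_mul_of_pos_right _ hd))]
    exact one_ne_zero (pown y hyn (j + 1) 1 (by rw [mul_one]; exact hall _ _ hy1))
  obtain ⟨tb, htb, htbe⟩ := exists_preimage ψ hdegT hx hy
  have hjd : ((j + d : ℕ) : ℤ) = (d : ℤ) + (j : ℤ) := by push_cast; ring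
  obtain ⟨z, hz, hze⟩ := exists_preimage ψ hdegT (n := ((j + d : ℕ) : ℤ)) ha
    (b := y * b) (by rw [hjd]; exact SetLike.mul_mem_graded hy hb)
  let J : Ideal T := (Ideal.span {tb}).colon {z}
  -- high degree elements multiply `z` into `(tb)`
  have hkey : ∀ i : ℕ, max N d ≤ i → ∀ u ∈ 𝒯 (i : ℤ), u * z ∈ Ideal.span {tb} := by
    intro i hi u hu
    have : ψ u ∈ (𝒯 (i : ℤ)).map ψ.toLinearMap := Submodule.mem_map_of_mem (f := ψ.toLinearMap) hu
    rw [hdegT] at this
    suffices h : ∀ w ∈ Submodule.span k {w : R ⊗[k] S | ∃ c ∈ 𝒜 (i : ℤ), ∃ e ∈ ℬ (i : ℤ), w = c ⊗ₜ[k] e},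
        ∃ v : T, w * ψ z = ψ tb * ψ v by
      obtain ⟨v, hv⟩ := h _ this
      rw [← map_mul, ← map_mul] at hv
      exact Ideal.mem_span_singleton.mpr ⟨v, hψ hv⟩
    intro w hw
    induction hw using Submodule.span_induction with
    | mem w hw =>
      obtain ⟨c, hc, e, he, rfl⟩ := hw
      obtain ⟨c₀, hc₀⟩ := Ideal.mem_span_singleton.mp (hN (Ideal.pow_le_pow_right (le_of_max_le_left hi)
        (One.piece_le_pow hstdR i hc)))
      have hc' : c = x * (decompose 𝒜 c₀ ((i : ℤ) - d) : R) := by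
        have h1 := coe_decompose_mul_add_of_right_mem 𝒜 (a := c₀) (i := (i : ℤ) - d) hx
        rw [mul_comm c₀, ← hc₀, sub_add_cancel, decompose_of_mem_same 𝒜 hc] at h1
        rw [h1, mul_comm]
      obtain ⟨v, -, hv⟩ := exists_preimage ψ hdegT (n := (i : ℤ) - d + ((j + d : ℕ) : ℤ))
        (SetLike.mul_mem_graded (SetLike.coe_mem (decompose 𝒜 c₀ ((i : ℤ) - d))) ha) (b := e * b) (by
        rw [show (i : ℤ) - d + ((j + d : ℕ) : ℤ) = (i : ℤ) + j by push_cast; ring]
        exact SetLike.mul_mem_graded he hb)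
      refine ⟨v, ?_⟩
      rw [hze, htbe, hv, hc', Algebra.TensorProduct.tmul_mul_tmul, Algebra.TensorProduct.tmul_mul_tmul]
      congr 1 <;> ring
    | zero => exact ⟨0, by simp⟩
    | add w w' _ _ hw hw' =>
      obtain ⟨v, hv⟩ := hw
      obtain ⟨v', hv'⟩ := hw'
      exact ⟨v + v', by rw [add_mul, hv, hv', map_add, mul_add]⟩
    | smul c w _ hw =>
      obtain ⟨v, hv⟩ := hw
      exact ⟨c • v, by rw [smul_mul_assoc, hv, map_smul, mul_smul_comm]⟩
  have hpow : Param.Plus 𝒯 ^ max N d ≤ J := by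
    have hle : ∀ M : ℕ, Param.Plus 𝒯 ^ M ≤ Ideal.span {u | ∃ i : ℕ, M ≤ i ∧ u ∈ 𝒯 (i : ℤ)} := by
      intro M
      induction M with
      | zero =>
        intro u _
        rw [← sum_support_decompose 𝒯 u]
        refine sum_mem fun i _ => ?_
        rcases lt_or_ge i 0 with h | h
        · rw [(Submodule.mem_bot k).mp ((hposT i h).le (SetLike.coe_mem _))]; exact zero_mem _
        · lift i to ℕ using h
          exact Ideal.subset_span ⟨i, Nat.zero_le _, SetLike.coe_mem _⟩
      | succ M ih =>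
        rw [pow_succ]
        refine (Ideal.mul_mono ih le_rfl).trans ?_
        rw [Param.Plus, Ideal.span_mul_span', Ideal.span_le]
        rintro _ ⟨u, ⟨i, hi, hu⟩, v, ⟨n, hn, hv⟩, rfl⟩
        lift n to ℕ using hn.le
        refine Ideal.subset_span ⟨i + n, by omega, ?_⟩
        push_cast
        exact SetLike.mul_mem_graded hu hv
    refine (hle _).trans (Ideal.span_le.mpr ?_)
    rintro u ⟨i, hi, hu⟩
    exact Submodule.mem_colon_singleton.mpr (hkey i hi u hu)
  -- at the vertex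
  haveI hmax := One.plus_isMaximal hposT h0T
  haveI := hmax.isPrime
  haveI := LocCoh.IsCohenMacaulayRing.isCohenMacaulayLocalRing_localization (Param.Plus 𝒯)
  let L := Localization.AtPrime (Param.Plus 𝒯)
  have hL2 : ((2 : ℕ) : WithBot ℕ∞) ≤ ringKrullDim L := by
    rw [IsLocalization.AtPrime.ringKrullDim_eq_height (Param.Plus 𝒯)]
    exact WithBot.coe_le_coe.mpr (One.two_le_height_plus hposT h0T hT2)
  have htbn : ∀ w : T, tb * w = 0 → w = 0 := by
    intro w hw
    have hinj : Function.Injective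
        (TensorProduct.map (LinearMap.mulLeft k x) (LinearMap.mulLeft k y)) :=
      TensorProduct.map_injective_of_flat_flat _ _
        (fun p q h => sub_eq_zero.mp (hxn _ (by rw [mul_sub]; exact sub_eq_zero.mpr h)))
        (fun p q h => sub_eq_zero.mp (hyn _ (by rw [mul_sub]; exact sub_eq_zero.mpr h)))
    have heq : ∀ v : R ⊗[k] S,
        (x ⊗ₜ[k] y) * v = TensorProduct.map (LinearMap.mulLeft k x) (LinearMap.mulLeft k y) v := by
      intro v
      induction v using TensorProduct.induction_on with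
      | zero => simp
      | tmul p q => simp [Algebra.TensorProduct.tmul_mul_tmul]
      | add p q hp hq => rw [mul_add, hp, hq, map_add]
    refine hψ ((hinj ?_).trans (map_zero ψ).symm)
    rw [← heq, map_zero, ← htbe, ← map_mul, hw, map_zero]
  have hmap : algebraMap T L z ∈ Ideal.span {algebraMap T L tb} := by
    refine CM.mem_span_of_maximalIdeal_mul hL2 ?_ ?_ (max N d) fun u hu => ?_
    · intro w hw
      obtain ⟨⟨w₀, s⟩, hws⟩ := IsLocalization.surj (Param.Plus 𝒯).primeCompl w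
      have h1 : algebraMap T L (tb * w₀) = 0 := by rw [map_mul, ← hws, ← mul_assoc, hw, zero_mul]
      obtain ⟨c, hc⟩ := (IsLocalization.map_eq_zero_iff (Param.Plus 𝒯).primeCompl _ _).mp h1
      have h2 : (c : T) * w₀ = 0 := htbn _ (by rw [← hc]; ring)
      have h3 : algebraMap T L w₀ = 0 :=
        (IsLocalization.map_eq_zero_iff (Param.Plus 𝒯).primeCompl _ _).mpr ⟨c, h2⟩
      rw [h3] at hws
      exact (IsLocalization.map_units L s).mul_left_eq_zero.mp hws
    · rw [← Ideal.mem_comap]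
      exact (Localization.AtPrime.comap_maximalIdeal (I := Param.Plus 𝒯)).ge
        (Param.mem_plus (by exact_mod_cast hd) htb)
    · rw [← Localization.AtPrime.map_eq_maximalIdeal, ← Ideal.map_pow] at hu
      have := Ideal.map_mono (f := algebraMap T L) hpow hu
      clear hu
      induction this using Submodule.span_induction with
      | mem v hv =>
        obtain ⟨v, hv, rfl⟩ := hv
        rw [← map_mul, Ideal.mem_span_singleton]
        exact map_dvd _ (Ideal.mem_span_singleton.mp (Submodule.mem_colon_singleton.mp hv))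
      | zero => simp
      | add p q _ _ hp hq => rw [add_mul]; exact add_mem hp hq
      | smul c p _ hp => rw [smul_eq_mul, mul_assoc]; exact Ideal.mul_mem_left _ c hp
  have hztb : z ∈ Ideal.span {tb} := by
    obtain ⟨v, hv⟩ := Ideal.mem_span_singleton.mp hmap
    obtain ⟨⟨v₀, s⟩, hvs⟩ := IsLocalization.surj (Param.Plus 𝒯).primeCompl v
    have h1 : algebraMap T L ((s : T) * z) = algebraMap T L (tb * v₀) := by
      rw [map_mul, map_mul, hv, ← hvs]; ring
    obtain ⟨c, hc⟩ := (IsLocalization.eq_iff_exists (Param.Plus 𝒯).primeCompl _).mp h1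
    have hcs : (c : T) * s ∈ J := Submodule.mem_colon_singleton.mpr
      (Ideal.mem_span_singleton.mpr ⟨c * v₀, by rw [smul_eq_mul]; linear_combination hc⟩)
    have htop : J = ⊤ := by
      by_contra hne
      obtain ⟨M, hM, hle⟩ := Ideal.exists_le_maximal _ hne
      have hPM : Param.Plus 𝒯 ≤ M := fun u hu => hM.isPrime.mem_of_pow_mem _
        (hle (hpow (Ideal.pow_mem_pow hu _)))
      have := hle hcs
      rw [Param.eq_plus_of_plus_le hposT h0T hM.ne_top hPM] at this
      exact ((Param.Plus 𝒯).primeCompl.mul_mem c.2 s.2) this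
    have : (1 : T) ∈ J := htop ▸ Submodule.mem_top
    simpa using Submodule.mem_colon_singleton.mp this
  -- read off divisibility
  obtain ⟨v, hv⟩ := Ideal.mem_span_singleton.mp hztb
  have hyb : y * b ≠ 0 := fun h => hb0 (hyn b h)
  obtain ⟨φ, hφ⟩ : ∃ φ : S →ₗ[k] k, φ (y * b) = 1 := by
    obtain ⟨φ, hφ⟩ : ∃ φ : Module.Dual k S, φ (y * b) ≠ 0 := by
      by_contra hcon
      push Not at hcon
      exact hyb ((Module.forall_dual_apply_eq_zero_iff k _).1 hcon)
    exact ⟨(φ (y * b))⁻¹ • φ, by simp [inv_mul_cancel₀ hφ]⟩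
  have hmul : ∀ w : R ⊗[k] S, ∃ u, TensorProduct.rid k R (φ.lTensor R ((x ⊗ₜ[k] y) * w)) = x * u := by
    intro w
    induction w using TensorProduct.induction_on with
    | zero => exact ⟨0, by simp⟩
    | tmul p q =>
      refine ⟨φ (y * q) • p, ?_⟩
      simp [Algebra.TensorProduct.tmul_mul_tmul]
    | add p q hp hq =>
      obtain ⟨u, hu⟩ := hp
      obtain ⟨u', hu'⟩ := hq
      exact ⟨u + u', by rw [mul_add, map_add, map_add, hu, hu', mul_add]⟩
  obtain ⟨u, hu⟩ := hmul (ψ v)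
  refine ⟨u, ?_⟩
  rw [← htbe, ← map_mul, ← hv, hze] at hu
  simpa [hφ] using hu

end Groth.Agent.Segre.Main
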