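import Groth.Agent.Segre.CM
import Groth.Agent.Segre.Diag
import Mathlib.RingTheory.NoetherNormalization
import Mathlib.RingTheory.Ideal.MinimalPrime.Localization
import Mathlib.LinearAlgebra.Basis.VectorSpace

set_option autoImplicit false
universe u v w
open DirectSum TensorProduct

namespace Groth.Agent.Segre.One

variable {k : Type u} [Field k] {R : Type v} [CommRing R] [Algebra k R]
  {𝒜 : ℤ → Submodule k R} [GradedAlgebra 𝒜]
  (hpos : ∀ n : ℤ, n < 0 → 𝒜 n = ⊥) (h0 : 𝒜 0 = Submodule.span k {(1 : R)})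

include hpos h0

lemma plus_ne_top [Nontrivial R] : Param.Plus 𝒜 ≠ ⊤ := by
  intro htop
  have key : ∀ y ∈ Param.Plus 𝒜, ∀ z : R, (decompose 𝒜 (z * y) 0 : R) = 0 := by
    intro y hy
    induction hy using Submodule.span_induction with
    | mem y hy =>
      obtain ⟨n, hn, hy⟩ := hy
      intro z
      have := coe_decompose_mul_add_of_right_mem 𝒜 (a := z) (i := -n) hy
      rw [neg_add_cancel] at this
      rw [this]
      have hm : (decompose 𝒜 z (-n) : R) ∈ 𝒜 (-n) := SetLike.coe_mem _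
      rw [(Submodule.mem_bot k).mp ((hpos (-n) (by omega)).le hm), zero_mul]
    | zero => simp
    | add a b _ _ ha hb =>
      intro z
      rw [mul_add, decompose_add, DirectSum.add_apply, Submodule.coe_add, ha z, hb z, add_zero]
    | smul c a _ ha => intro z; rw [smul_eq_mul, ← mul_assoc]; exact ha (z * c)
  have h1 := key 1 (htop ▸ Submodule.mem_top) 1
  rw [one_mul, decompose_of_mem_same 𝒜 (SetLike.one_mem_graded 𝒜)] at h1
  exact one_ne_zero h1

lemma plus_isMaximal [Nontrivial R] : (Param.Plus 𝒜).IsMaximal := by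
  obtain ⟨M, hM, hle⟩ := Ideal.exists_le_maximal _ (plus_ne_top hpos h0)
  exact Param.eq_plus_of_plus_le hpos h0 hM.ne_top hle ▸ hM

lemma minimalPrime_le_plus {I p : Ideal R} (hI : I.IsHomogeneous 𝒜) (hp : p ∈ I.minimalPrimes) :
    p ≤ Param.Plus 𝒜 :=
  Param.le_plus_of_homogeneous hpos h0 hp.isPrime.ne_top (Param.minimalPrime_isHomogeneous hI hp)

lemma dim_eq_zero_of_plus_minimal [Nontrivial R] {p : Ideal R}
    (hp : p ∈ (⊥ : Ideal R).minimalPrimes) (h : Param.Plus 𝒜 ≤ p) :
    ringKrullDim R ≤ 0 := by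
  have hpP := Param.eq_plus_of_plus_le hpos h0 hp.isPrime.ne_top h
  subst hpP
  have hall : ∀ q : PrimeSpectrum R, q.asIdeal = Param.Plus 𝒜 := fun q => by
    obtain ⟨q', hq', hle⟩ := Ideal.exists_minimalPrimes_le (bot_le : ⊥ ≤ q.asIdeal)
    have h1 : q' = Param.Plus 𝒜 := le_antisymm
      (minimalPrime_le_plus hpos h0 (Ideal.IsHomogeneous.bot 𝒜) hq')
      (hp.2 hq'.1 (minimalPrime_le_plus hpos h0 (Ideal.IsHomogeneous.bot 𝒜) hq'))
    exact Param.eq_plus_of_plus_le hpos h0 q.2.ne_top (h1 ▸ hle)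
  refine iSup_le fun t => ?_
  have : t.length = 0 := by
    by_contra hne
    have h01 := t.strictMono (show (0 : Fin (t.length + 1)) < Fin.last _ by
      rw [Fin.lt_def]; simp; omega)
    exact h01.ne (PrimeSpectrum.ext ((hall _).trans (hall _).symm))
  simp [this]

lemma exists_nzd [Algebra.FiniteType k R] [LocCoh.IsCohenMacaulayRing R]
    (hdim : 1 ≤ ringKrullDim R) :
    ∃ d : ℕ, 0 < d ∧ ∃ x ∈ 𝒜 (d : ℤ), ∀ y, x * y = 0 → y = 0 := by
  classical
  haveI : IsNoetherianRing R := inferInstance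
  haveI : Nontrivial R := by
    rw [← not_subsingleton_iff_nontrivial]
    intro h
    simp [ringKrullDim_eq_bot_of_subsingleton] at hdim
  let s := (associatedPrimes.finite R R).toFinset
  have hs : ∀ p ∈ s, p ∈ associatedPrimes R R := fun p hp => (Set.Finite.mem_toFinset _).mp hp
  have hmin := fun p hp => CM.isMin_of_isAssociatedPrime (hs p hp)
  obtain ⟨d, hd, x, hx, hxs⟩ := Param.exists_homogeneous_avoid (𝒜 := 𝒜) s (fun p hp => (hmin p hp).isPrime)
    (fun p hp => Param.minimalPrime_isHomogeneous (Ideal.IsHomogeneous.bot 𝒜) (hmin p hp))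
    (fun p hp h => by
      have := hdim.trans (dim_eq_zero_of_plus_minimal hpos h0 (hmin p hp) h)
      exact absurd this (by norm_num))
    (fun p hp q hq h => le_antisymm h ((hmin q hq).2 (hmin p hp).1 h))
  refine ⟨d, hd, x, hx, fun y hy => by_contra fun hy0 => ?_⟩
  have : x ∈ ⋃ p ∈ associatedPrimes R R, (p : Set R) := by
    rw [biUnion_associatedPrimes_eq_zero_divisors]
    exact ⟨y, hy0, hy⟩
  obtain ⟨p, hp, hxp⟩ := Set.mem_iUnion₂.mp this
  exact hxs p ((Set.Finite.mem_toFinset _).mpr hp) hxp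

omit hpos h0 in
lemma piece_eq_mul
    (hstd : Ideal.span (⋃ n ∈ Set.Ioi (0 : ℤ), (𝒜 n : Set R)) = Ideal.span ((𝒜 1 : Submodule k R) : Set R))
    (n : ℕ) : 𝒜 ((n + 1 : ℕ) : ℤ) ≤
      Submodule.span k {z | ∃ l ∈ 𝒜 1, ∃ u ∈ 𝒜 (n : ℤ), z = l * u} := by
  intro a ha
  have hmem : a ∈ Ideal.span ((𝒜 1 : Submodule k R) : Set R) :=
    hstd ▸ Ideal.subset_span (Set.mem_iUnion₂.mpr ⟨_, by simp, ha⟩)
  rw [← decompose_of_mem_same 𝒜 ha]
  clear ha
  suffices ∀ c : R, (decompose 𝒜 (c * a) ((n + 1 : ℕ) : ℤ) : R) ∈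
      Submodule.span k {z | ∃ l ∈ 𝒜 1, ∃ u ∈ 𝒜 (n : ℤ), z = l * u} by
    simpa using this 1
  induction hmem using Submodule.span_induction with
  | mem l hl =>
    intro c
    have := coe_decompose_mul_add_of_right_mem 𝒜 (a := c) (i := (n : ℤ)) hl
    rw [show ((n + 1 : ℕ) : ℤ) = (n : ℤ) + 1 by push_cast; ring, this]
    exact Submodule.subset_span ⟨l, hl, _, SetLike.coe_mem _, mul_comm _ _⟩
  | zero => intro c; simp
  | add x y _ _ hx hy =>
    intro c
    rw [mul_add, decompose_add, DirectSum.add_apply, Submodule.coe_add]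
    exact add_mem (hx c) (hy c)
  | smul t x _ hx => intro c; rw [smul_eq_mul, ← mul_assoc]; exact hx (c * t)

omit hpos h0 in
lemma piece_le_pow
    (hstd : Ideal.span (⋃ n ∈ Set.Ioi (0 : ℤ), (𝒜 n : Set R)) = Ideal.span ((𝒜 1 : Submodule k R) : Set R))
    (n : ℕ) {a : R} (ha : a ∈ 𝒜 (n : ℤ)) : a ∈ Param.Plus 𝒜 ^ n := by
  induction n generalizing a with
  | zero => simp
  | succ n ih =>
    have h := piece_eq_mul hstd n ha
    clear ha
    induction h using Submodule.span_induction with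
    | mem z hz =>
      obtain ⟨l, hl, u, hu, rfl⟩ := hz
      rw [pow_succ']
      exact Ideal.mul_mem_mul (Param.mem_plus one_pos hl) (ih hu)
    | zero => exact zero_mem _
    | add x y _ _ hx hy => exact add_mem hx hy
    | smul t x _ hx => exact Submodule.smul_of_tower_mem _ t hx

lemma scalar_of_mem_zero {u : R} (hu : u ∈ 𝒜 0) : ∃ c : k, u = algebraMap k R c := by
  obtain ⟨c, hc⟩ := Submodule.mem_span_singleton.mp (h0.le hu)
  exact ⟨c, by rw [← hc, Algebra.smul_def, mul_one]⟩

/-- the ring is a polynomial ring in one variable -/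
lemma nonempty_polynomial [Nontrivial R]
    (hstd : Ideal.span (⋃ n ∈ Set.Ioi (0 : ℤ), (𝒜 n : Set R)) = Ideal.span ((𝒜 1 : Submodule k R) : Set R))
    {d : ℕ} (hd : 0 < d) {x : R} (hx : x ∈ 𝒜 (d : ℤ)) (hnzd : ∀ y, x * y = 0 → y = 0)
    (hdiv : ∀ m : ℕ, d ≤ m → ∀ a ∈ 𝒜 (m : ℤ), ∃ u, a = x * u) :
    Nonempty (R ≃ₐ[k] Polynomial k) := by
  classical
  have hdiv' : ∀ j : ℕ, ∀ a ∈ 𝒜 ((j + d : ℕ) : ℤ), ∃ u ∈ 𝒜 (j : ℤ), a = x * u := by
    intro j a ha
    obtain ⟨u, hu⟩ := hdiv _ (Nat.le_add_left d j) a ha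
    refine ⟨decompose 𝒜 u (j : ℤ), SetLike.coe_mem _, ?_⟩
    have h1 := coe_decompose_mul_add_of_right_mem 𝒜 (a := u) (i := (j : ℤ)) hx
    rw [mul_comm, ← hu, ← Nat.cast_add, decompose_of_mem_same 𝒜 ha] at h1
    rw [h1, mul_comm]
  have hxj : ∀ j : ℕ, ∀ a ∈ 𝒜 ((j * d : ℕ) : ℤ), ∃ c : k, a = algebraMap k R c * x ^ j := by
    intro j
    induction j with
    | zero =>
      intro a ha
      rw [Nat.zero_mul, Nat.cast_zero] at ha
      obtain ⟨c, hc⟩ := scalar_of_mem_zero hpos h0 ha
      exact ⟨c, by rw [pow_zero, mul_one, hc]⟩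
    | succ j ih =>
      intro a ha
      rw [Nat.succ_mul] at ha
      obtain ⟨u, hu, rfl⟩ := hdiv' (j * d) a ha
      obtain ⟨c, hc⟩ := ih u hu
      exact ⟨c, by rw [hc]; ring⟩
  have hx0 : x ≠ 0 := fun h => one_ne_zero (hnzd 1 (by rw [h, zero_mul]))
  have hxN : ∀ (j : ℕ) (y : R), x ^ j * y = 0 → y = 0 := by
    intro j
    induction j with
    | zero => simp
    | succ j ih => intro y hy; rw [pow_succ, mul_assoc] at hy; exact hnzd y (ih _ hy)
  -- a nonzerodivisor in degree one
  obtain ⟨e, rfl⟩ : ∃ e, d = e + 1 := Nat.exists_eq_succ_of_ne_zero hd.ne'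
  obtain ⟨l, hl, hlnzd⟩ : ∃ l ∈ 𝒜 (1 : ℤ), ∀ y, l * y = 0 → y = 0 := by
    by_contra hcon
    push Not at hcon
    suffices hzero : ∀ z ∈ Submodule.span k {z | ∃ l ∈ 𝒜 1, ∃ u ∈ 𝒜 (e : ℤ), z = l * u}, z = 0 from
      hx0 (hzero x (piece_eq_mul hstd e hx))
    intro z hz
    induction hz using Submodule.span_induction with
    | mem z hz =>
      obtain ⟨l, hl, u, hu, rfl⟩ := hz
      obtain ⟨y, hy, hy0⟩ := hcon l hl
      obtain ⟨c, hc⟩ := hxj 1 (l * u) (by
        rw [one_mul, show ((e + 1 : ℕ) : ℤ) = 1 + (e : ℤ) by push_cast; ring]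
        exact SetLike.mul_mem_graded hl hu)
      rcases eq_or_ne c 0 with rfl | hc0
      · simpa using hc
      refine absurd (hnzd y ?_) hy0
      have : algebraMap k R c * (x * y) = 0 := by
        rw [← mul_assoc, ← pow_one x, ← hc, mul_right_comm, hy, zero_mul]
      exact ((isUnit_iff_ne_zero.mpr hc0).map (algebraMap k R)).mul_right_eq_zero.mp this
    | zero => rfl
    | add a b _ _ ha hb => rw [ha, hb, add_zero]
    | smul t a _ ha => rw [ha, smul_zero]
  have hlpow : ∀ (j : ℕ) (y : R), l ^ j * y = 0 → y = 0 := by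
    intro j
    induction j with
    | zero => simp
    | succ j ih => intro y hy; rw [pow_succ, mul_assoc] at hy; exact hlnzd y (ih _ hy)
  have hlmem : ∀ j : ℕ, l ^ j ∈ 𝒜 (j : ℤ) := fun j => by
    have := SetLike.pow_mem_graded j hl
    rwa [nsmul_eq_mul, mul_one] at this
  have hpiece : ∀ n : ℕ, ∀ a ∈ 𝒜 (n : ℤ), ∃ c : k, a = algebraMap k R c * l ^ n := by
    intro n a ha
    have h1 : a * l ^ (n * e) ∈ 𝒜 ((n * (e + 1) : ℕ) : ℤ) := by
      rw [show ((n * (e + 1) : ℕ) : ℤ) = (n : ℤ) + ((n * e : ℕ) : ℤ) by push_cast; ring]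
      exact SetLike.mul_mem_graded ha (hlmem _)
    have h2 : l ^ n * l ^ (n * e) ∈ 𝒜 ((n * (e + 1) : ℕ) : ℤ) := by
      rw [show ((n * (e + 1) : ℕ) : ℤ) = (n : ℤ) + ((n * e : ℕ) : ℤ) by push_cast; ring]
      exact SetLike.mul_mem_graded (hlmem _) (hlmem _)
    obtain ⟨c, hc⟩ := hxj n _ h1
    obtain ⟨c', hc'⟩ := hxj n _ h2
    have hc'0 : c' ≠ 0 := by
      rintro rfl
      have hz : l ^ (n + n * e) * 1 = 0 := by rw [mul_one, pow_add, hc', map_zero, zero_mul]
      exact one_ne_zero (hlpow _ 1 hz)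
    refine ⟨c / c', sub_eq_zero.mp (hlpow (n * e) _ ?_)⟩
    have : algebraMap k R (c / c') * algebraMap k R c' = algebraMap k R c := by
      rw [← map_mul, div_mul_cancel₀ _ hc'0]
    linear_combination hc - (algebraMap k R (c / c')) * hc' - x ^ n * this
  let φ : Polynomial k →ₐ[k] R := Polynomial.aeval l
  have hφ : Function.Bijective φ := by
    constructor
    · rw [injective_iff_map_eq_zero]
      intro P hP
      ext n
      have hsum : φ P = ∑ j ∈ Finset.range (P.natDegree + 1), algebraMap k R (P.coeff j) * l ^ j := by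
        simp [φ, Polynomial.aeval_eq_sum_range, Algebra.smul_def]
      have hdec := congrArg (fun y => (decompose 𝒜 y (n : ℤ) : R)) (hsum.symm.trans hP)
      simp only [decompose_zero, DirectSum.zero_apply, ZeroMemClass.coe_zero, decompose_sum] at hdec
      rw [DFinsupp.finsetSum_apply, AddSubmonoidClass.coe_finsetSum] at hdec
      have hj : ∀ j : ℕ, algebraMap k R (P.coeff j) * l ^ j ∈ 𝒜 (j : ℤ) := fun j => by
        rw [← Algebra.smul_def]; exact Submodule.smul_mem _ _ (hlmem j)
      by_cases hn : n ∈ Finset.range (P.natDegree + 1)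
      · rw [Finset.sum_eq_single n (fun j _ hjn => decompose_of_mem_ne 𝒜 (hj j) (by exact_mod_cast hjn))
          (fun h => absurd hn h), decompose_of_mem_same 𝒜 (hj n)] at hdec
        have : algebraMap k R (P.coeff n) = 0 := hlpow n _ (by rw [mul_comm]; exact hdec)
        simpa using (algebraMap k R).injective (this.trans (map_zero _).symm)
      · simp only [Finset.mem_range, not_lt] at hn
        simp [Polynomial.coeff_eq_zero_of_natDegree_lt (by omega : P.natDegree < n)]
    · intro a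
      induction a using DirectSum.Decomposition.inductionOn 𝒜 with
      | zero => exact ⟨0, map_zero φ⟩
      | add a b ha hb =>
        obtain ⟨p, rfl⟩ := ha
        obtain ⟨q, rfl⟩ := hb
        exact ⟨p + q, map_add φ p q⟩
      | homogeneous a =>
        rename_i i
        rcases lt_or_ge i 0 with h | h
        · exact ⟨0, by rw [map_zero]; exact ((Submodule.mem_bot k).mp ((hpos i h).le a.2)).symm⟩
        · lift i to ℕ using h
          obtain ⟨c, hc⟩ := hpiece i a a.2
          exact ⟨Polynomial.C c * Polynomial.X ^ i, by simp [φ, hc]⟩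
  exact ⟨(AlgEquiv.ofBijective φ hφ).symm⟩

/-- conversely, a graded polynomial ring is generated by one element of degree one -/
lemma exists_generator_of_polynomial
    (hstd : Ideal.span (⋃ n ∈ Set.Ioi (0 : ℤ), (𝒜 n : Set R)) = Ideal.span ((𝒜 1 : Submodule k R) : Set R))
    (e : R ≃ₐ[k] Polynomial k) :
    ∃ l ∈ 𝒜 (1 : ℤ), (∀ n : ℕ, ∀ a ∈ 𝒜 (n : ℤ), ∃ c : k, a = algebraMap k R c * l ^ n) ∧
      Function.Bijective (Polynomial.aeval (R := k) l) := by
  classical
  haveI : IsDomain R := e.toMulEquiv.isDomain (Polynomial k)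
  -- the irrelevant ideal is principal
  haveI : IsPrincipalIdealRing R := IsPrincipalIdealRing.of_surjective e.symm.toRingHom e.symm.surjective
  obtain ⟨g, hg⟩ := IsPrincipalIdealRing.principal (Param.Plus 𝒜)
  change Param.Plus 𝒜 = Ideal.span {g} at hg
  have hgP : g ∈ Param.Plus 𝒜 := hg ▸ Ideal.mem_span_singleton_self g
  have hg0 : (decompose 𝒜 g 0 : R) = 0 := by
    have h1 : (decompose 𝒜 g 0 : R) ∈ Param.Plus 𝒜 :=
      Param.isHomogeneous_plus (𝒜 := 𝒜) 0 hgP
    obtain ⟨c, hc⟩ := scalar_of_mem_zero hpos h0 (SetLike.coe_mem (decompose 𝒜 g 0))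
    rcases eq_or_ne c 0 with rfl | hc0
    · simpa using hc
    · exact absurd (Ideal.eq_top_of_isUnit_mem _ h1 (hc ▸ (isUnit_iff_ne_zero.mpr hc0).map _))
        (plus_ne_top hpos h0)
  let l : R := (decompose 𝒜 g 1 : R)
  have hl : l ∈ 𝒜 (1 : ℤ) := SetLike.coe_mem _
  have h1piece : ∀ a ∈ 𝒜 (1 : ℤ), ∃ c : k, a = algebraMap k R c * l := by
    intro a ha
    obtain ⟨u, hu⟩ := Ideal.mem_span_singleton.mp (hg ▸ Param.mem_plus one_pos ha : a ∈ Ideal.span {g})
    obtain ⟨c, hc⟩ := scalar_of_mem_zero hpos h0 (SetLike.coe_mem (decompose 𝒜 u 0))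
    refine ⟨c, ?_⟩
    rw [← decompose_of_mem_same 𝒜 ha, hu]
    have key : ∀ v : R, (decompose 𝒜 (g * v) 1 : R) = (decompose 𝒜 v 0 : R) * l := by
      intro v
      induction v using DirectSum.Decomposition.inductionOn 𝒜 with
      | zero => simp
      | add a b ha hb =>
        rw [mul_add, decompose_add, DirectSum.add_apply, Submodule.coe_add, ha, hb, decompose_add,
          DirectSum.add_apply, Submodule.coe_add, add_mul]
      | homogeneous b =>
        rename_i i
        have h1 := coe_decompose_mul_add_of_right_mem 𝒜 (a := g) (i := 1 - i) b.2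
        rw [sub_add_cancel] at h1
        rw [h1]
        rcases lt_trichotomy i 0 with h | rfl | h
        · have hb : (b : R) = 0 := (Submodule.mem_bot k).mp ((hpos i h).le b.2)
          simp [hb]
        · rw [decompose_of_mem_same 𝒜 b.2, sub_zero, mul_comm]
        · rw [decompose_of_mem_ne 𝒜 b.2 h.ne']
          rcases eq_or_ne i 1 with rfl | h1'
          · rw [sub_self, hg0, zero_mul, zero_mul]
          · rw [(Submodule.mem_bot k).mp ((hpos (1 - i) (by omega)).le (SetLike.coe_mem _)), zero_mul, zero_mul]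
    rw [key, hc]
  have hpiece : ∀ n : ℕ, ∀ a ∈ 𝒜 (n : ℤ), ∃ c : k, a = algebraMap k R c * l ^ n := by
    intro n
    induction n with
    | zero =>
      intro a ha
      obtain ⟨c, hc⟩ := scalar_of_mem_zero hpos h0 (by simpa using ha)
      exact ⟨c, by rw [pow_zero, mul_one, hc]⟩
    | succ n ih =>
      intro a ha
      have h := piece_eq_mul hstd n ha
      clear ha
      induction h using Submodule.span_induction with
      | mem z hz =>
        obtain ⟨m, hm, u, hu, rfl⟩ := hz
        obtain ⟨c, rfl⟩ := h1piece m hm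
        obtain ⟨c', rfl⟩ := ih u hu
        exact ⟨c * c', by rw [map_mul]; ring⟩
      | zero => exact ⟨0, by simp⟩
      | add x y _ _ hx hy =>
        obtain ⟨c, rfl⟩ := hx
        obtain ⟨c', rfl⟩ := hy
        exact ⟨c + c', by rw [map_add]; ring⟩
      | smul t x _ hx =>
        obtain ⟨c, rfl⟩ := hx
        exact ⟨t * c, by rw [map_mul, Algebra.smul_def]; ring⟩
  have hsurj : Function.Surjective (Polynomial.aeval (R := k) l) := by
    intro a
    induction a using DirectSum.Decomposition.inductionOn 𝒜 with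
    | zero => exact ⟨0, map_zero _⟩
    | add a b ha hb =>
      obtain ⟨p, rfl⟩ := ha
      obtain ⟨q, rfl⟩ := hb
      exact ⟨p + q, map_add _ p q⟩
    | homogeneous a =>
      rename_i i
      rcases lt_or_ge i 0 with h | h
      · exact ⟨0, by rw [map_zero]; exact ((Submodule.mem_bot k).mp ((hpos i h).le a.2)).symm⟩
      · lift i to ℕ using h
        obtain ⟨c, hc⟩ := hpiece i a a.2
        exact ⟨Polynomial.C c * Polynomial.X ^ i, by simp [hc]⟩
  refine ⟨l, hl, hpiece, ?_, hsurj⟩
  have hl0 : l ≠ 0 := by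
    intro h
    obtain ⟨p, hp⟩ := hsurj (e.symm Polynomial.X)
    rw [h, Polynomial.aeval_def, Polynomial.eval₂_at_zero] at hp
    have := congrArg e hp
    rw [AlgEquiv.apply_symm_apply, AlgEquiv.commutes] at this
    simpa using congrArg (fun q => Polynomial.coeff q 1) this
  rw [injective_iff_map_eq_zero]
  intro P hP
  ext n
  have hsum : Polynomial.aeval (R := k) l P =
      ∑ j ∈ Finset.range (P.natDegree + 1), algebraMap k R (P.coeff j) * l ^ j := by
    simp [Polynomial.aeval_eq_sum_range, Algebra.smul_def]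
  have hdec := congrArg (fun y => (decompose 𝒜 y (n : ℤ) : R)) (hsum.symm.trans hP)
  simp only [decompose_zero, DirectSum.zero_apply, ZeroMemClass.coe_zero, decompose_sum] at hdec
  rw [DFinsupp.finsetSum_apply, AddSubmonoidClass.coe_finsetSum] at hdec
  have hj : ∀ j : ℕ, algebraMap k R (P.coeff j) * l ^ j ∈ 𝒜 (j : ℤ) := fun j => by
    rw [← Algebra.smul_def]
    refine Submodule.smul_mem _ _ ?_
    have := SetLike.pow_mem_graded j hl
    rwa [nsmul_eq_mul, mul_one] at this
  by_cases hn : n ∈ Finset.range (P.natDegree + 1)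
  · rw [Finset.sum_eq_single n (fun j _ hjn => decompose_of_mem_ne 𝒜 (hj j) (by exact_mod_cast hjn))
      (fun h => absurd hn h), decompose_of_mem_same 𝒜 (hj n)] at hdec
    have : algebraMap k R (P.coeff n) = 0 :=
      (mul_eq_zero.mp hdec).resolve_right (pow_ne_zero _ hl0)
    simpa using (algebraMap k R).injective (this.trans (map_zero _).symm)
  · simp only [Finset.mem_range, not_lt] at hn
    simp [Polynomial.coeff_eq_zero_of_natDegree_lt (by omega : P.natDegree < n)]

/-- the irrelevant ideal has height at least two -/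
lemma two_le_height_plus [Algebra.FiniteType k R] [IsNoetherianRing R]
    (hdim : ((2 : ℕ) : WithBot ℕ∞) ≤ ringKrullDim R) :
    ((2 : ℕ) : ℕ∞) ≤ (Param.Plus 𝒜).height := by
  classical
  haveI : Nontrivial R := by
    rw [← not_subsingleton_iff_nontrivial]
    intro h
    rw [ringKrullDim_eq_bot_of_subsingleton] at hdim
    exact absurd hdim (not_le.mpr (WithBot.bot_lt_coe _))
  haveI := (plus_isMaximal hpos h0).isPrime
  by_contra hlt
  have hle : (Param.Plus 𝒜).height ≤ ((1 : ℕ) : ℕ∞) := by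
    rw [not_le] at hlt
    obtain ⟨n, hn⟩ := ENat.ne_top_iff_exists.mp (ne_top_of_lt hlt)
    rw [← hn] at hlt ⊢
    have h2 : n < 2 := by exact_mod_cast hlt
    exact_mod_cast (by omega : n ≤ 1)
  rw [Ideal.height_le_iff] at hle
  -- a chain of length two
  have hnb : ¬ ringKrullDim R ≤ ((1 : ℕ) : WithBot ℕ∞) := fun h => by
    have := hdim.trans h
    norm_cast at this
  refine hnb (iSup_le fun t => ?_)
  obtain ⟨p, hp, hpt⟩ := Ideal.exists_minimalPrimes_le (bot_le : ⊥ ≤ t.head.asIdeal)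
  have hpP := minimalPrime_le_plus hpos h0 (Ideal.IsHomogeneous.bot 𝒜) hp
  by_cases hPp : Param.Plus 𝒜 ≤ p
  · have := dim_eq_zero_of_plus_minimal hpos h0 hp hPp
    exact ((le_iSup (fun t : LTSeries (PrimeSpectrum R) => ((t.length : ℕ) : WithBot ℕ∞)) t).trans this).trans
      (by norm_num)
  obtain ⟨d, hd, f, hf, hfp⟩ := Param.exists_homogeneous_avoid (𝒜 := 𝒜) {p}
    (by simpa using hp.isPrime)
    (by simpa using Param.minimalPrime_isHomogeneous (Ideal.IsHomogeneous.bot 𝒜) hp)
    (by simpa using hPp) (by simp)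
  have hfp : f ∉ p := hfp p (Finset.mem_singleton_self p)
  have hI : (Ideal.span (Set.range fun _ : Fin 1 => f) ⊔ p).IsHomogeneous 𝒜 :=
    (Ideal.homogeneous_span 𝒜 _ (by rintro y ⟨i, rfl⟩; exact ⟨_, hf⟩)).sup
      (Param.minimalPrime_isHomogeneous (Ideal.IsHomogeneous.bot 𝒜) hp)
  have hrad : ∀ y ∈ Param.Plus 𝒜, y ∈ (Ideal.span (Set.range fun _ : Fin 1 => f) ⊔ p).radical := by
    intro y hy
    rw [Ideal.radical_eq_sInf, Ideal.mem_sInf]
    rintro q ⟨hq, hqp⟩
    obtain ⟨q', hq', hq'q⟩ := Ideal.exists_minimalPrimes_le hq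
    have hq'P := minimalPrime_le_plus hpos h0 hI hq'
    rcases eq_or_lt_of_le hq'P with h | h
    · exact hq'q (h ▸ hy)
    · exfalso
      have h1 := hle q' hq'.isPrime h
      have hpq' : p < q' := lt_of_le_of_ne (le_sup_right.trans hq'.le) fun hh =>
        hfp (hh ▸ hq'.le (Ideal.mem_sup_left (Ideal.subset_span ⟨0, rfl⟩)))
      haveI := hq'.isPrime
      haveI := hp.isPrime
      have := Ideal.height_le_iff (p := q') (n := 0)
      have h0' : q'.height = 0 := ENat.lt_one_iff_eq_zero.mp (by exact_mod_cast h1)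
      exact absurd (this.mp h0'.le p hp.isPrime hpq') (by simp)
  obtain ⟨m, e, w, hw, hspan⟩ := Param.monomial_span hpos h0
    (Param.minimalPrime_isHomogeneous (Ideal.IsHomogeneous.bot 𝒜) hp) hd
    (fun _ : Fin 1 => hf) hrad
  -- `R ⧸ p` is finite over `k[f]`
  let φ : Polynomial k →ₐ[k] (R ⧸ p) := Polynomial.aeval (Ideal.Quotient.mkₐ k p f)
  have hfin : φ.toRingHom.Finite := by
    algebraize [φ.toRingHom]
    refine ⟨⟨Finset.univ.image fun j => Ideal.Quotient.mk p (w j), eq_top_iff.mpr ?_⟩⟩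
    rintro y -
    obtain ⟨y, rfl⟩ := Ideal.Quotient.mk_surjective y
    obtain ⟨a, ha, b, hb, rfl⟩ := Submodule.mem_sup.mp (hspan (Submodule.mem_top (x := y)))
    rw [map_add, Ideal.Quotient.eq_zero_iff_mem.mpr hb, add_zero]
    induction ha using Submodule.span_induction with
    | mem z hz =>
      obtain ⟨L, j, rfl⟩ := hz
      have hp' : Ideal.Quotient.mk p ((L.map fun _ : Fin 1 => f).prod * w j) =
          φ (Polynomial.X ^ L.length) * Ideal.Quotient.mk p (w j) := by
        rw [List.map_const', List.prod_replicate, map_mul, map_pow]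
        simp [φ]
      rw [hp']
      exact Submodule.smul_mem _ (Polynomial.X ^ L.length : Polynomial k)
        (Submodule.subset_span (by simp))
    | zero => rw [map_zero]; exact zero_mem _
    | add a b _ _ ha hb => rw [map_add]; exact add_mem ha hb
    | smul c a _ ha =>
      have : Ideal.Quotient.mk p (c • a) = φ (Polynomial.C c) * Ideal.Quotient.mk p a := by
        simp only [φ, Polynomial.aeval_C, Algebra.smul_def, map_mul]
        rfl
      rw [this]
      exact Submodule.smul_mem _ (Polynomial.C c) ha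
  haveI := hp.isPrime
  algebraize [φ.toRingHom]
  haveI : Algebra.IsIntegral (Polynomial k) (R ⧸ p) := ⟨hfin.to_isIntegral⟩
  have hdimle : ringKrullDim (R ⧸ p) ≤ ((1 : ℕ) : WithBot ℕ∞) := by
    refine (Order.krullDim_le_of_strictMono (PrimeSpectrum.comap φ.toRingHom) fun P Q h =>
      Ideal.IsIntegral.comap_lt_comap (R := Polynomial k) (I := P.asIdeal) (J := Q.asIdeal) h).trans ?_
    show ringKrullDim (Polynomial k) ≤ _
    rw [Polynomial.ringKrullDim_of_isNoetherianRing, ringKrullDim_eq_zero_of_field]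
    norm_num
  rw [ringKrullDim_quotient] at hdimle
  let t' : LTSeries (PrimeSpectrum.zeroLocus (R := R) p) :=
    { length := t.length
      toFun := fun i => ⟨t i, fun y hy => t.monotone (Fin.zero_le i) (hpt hy)⟩
      step := fun i => t.step i }
  exact (le_iSup (fun x : LTSeries (PrimeSpectrum.zeroLocus (R := R) p) =>
    ((x.length : ℕ) : WithBot ℕ∞)) t').trans hdimle

end Groth.Agent.Segre.One
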