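import Groth.Agent.Segre.Param
import Mathlib.RingTheory.NoetherNormalization
import Mathlib.RingTheory.AlgebraicIndependent.TranscendenceBasis
import Mathlib.RingTheory.Algebraic.Integral
import Mathlib.RingTheory.KrullDimension.Field

set_option autoImplicit false
universe u

namespace Groth.Agent.Segre.Poly

open MvPolynomial Cardinal

variable (k : Type u) [Field k] (r s : ℕ)

abbrev P := MvPolynomial (Fin (r + 1) ⊕ Fin (s + 1)) k

/-- the coordinate ring of the Segre product of two polynomial rings -/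
noncomputable def D : Subalgebra k (P k r s) :=
  Algebra.adjoin k (Set.range fun q : Fin (r + 1) × Fin (s + 1) =>
    (X (Sum.inl q.1) * X (Sum.inr q.2) : P k r s))

noncomputable def z : Fin (r + 1) ⊕ Fin s → P k r s :=
  Sum.elim (fun i => X (Sum.inl i) * X (Sum.inr 0)) (fun j => X (Sum.inl 0) * X (Sum.inr j.succ))

lemma z_mem (t : Fin (r + 1) ⊕ Fin s) : z k r s t ∈ D k r s := by
  cases t with
  | inl i => exact Algebra.subset_adjoin ⟨(i, 0), rfl⟩
  | inr j => exact Algebra.subset_adjoin ⟨(0, j.succ), rfl⟩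

/-- algebraicity from a linear equation -/
lemma isAlgebraic_of_mul_eq {A B : Type*} [CommRing A] [CommRing B] [Algebra A B] [IsDomain B]
    (a c : A) (x : B) (ha : a ≠ 0) (h : algebraMap A B a * x = algebraMap A B c) :
    IsAlgebraic A x := by
  refine ⟨Polynomial.C a * Polynomial.X - Polynomial.C c, fun h0 => ha ?_, by simp [h]⟩
  simpa using congrArg (fun q => Polynomial.coeff q 1) h0

/-- generators satisfying linear equations give an algebraic extension -/
lemma isAlgebraic_adjoin {F : Type*} {B : Type*} [Field F] [CommRing B] [IsDomain B] [Algebra F B]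
    (A : Subalgebra F B) (S : Set B) (hS : Algebra.adjoin F S = ⊤)
    (h : ∀ x ∈ S, ∃ a ∈ A, a ≠ 0 ∧ a * x ∈ A) : Algebra.IsAlgebraic A B := by
  haveI : IsDomain A := inferInstance
  refine ⟨fun p => ?_⟩
  have hp : p ∈ Algebra.adjoin F S := hS ▸ Algebra.mem_top
  induction hp using Algebra.adjoin_induction with
  | mem x hx =>
    obtain ⟨a, ha, ha0, hax⟩ := h x hx
    exact isAlgebraic_of_mul_eq (⟨a, ha⟩ : A) ⟨a * x, hax⟩ x
      (fun h => ha0 (congrArg Subtype.val h)) rfl
  | algebraMap c => exact isAlgebraic_algebraMap (algebraMap F A c)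
  | add a b ha hb iha ihb => exact iha.add ihb
  | mul a b ha hb iha ihb => exact iha.mul ihb

lemma algebraicIndependent_z : AlgebraicIndependent k (z k r s) := by
  let y : Option (Fin (r + 1) ⊕ Fin s) → P k r s := fun o => o.elim (X (Sum.inr 0)) (z k r s)
  have e : y ∘ some = z k r s := funext fun t => rfl
  suffices h : IsTranscendenceBasis k y by
    rw [← e]
    exact h.1.comp some (Option.some_injective _)
  have hy : ∀ o, y o ∈ Algebra.adjoin k (Set.range y) := fun o => Algebra.subset_adjoin ⟨o, rfl⟩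
  haveI : Algebra.IsAlgebraic (Algebra.adjoin k (Set.range y)) (P k r s) := by
    refine isAlgebraic_adjoin _ _ MvPolynomial.adjoin_range_X ?_
    rintro _ ⟨i | j, rfl⟩
    · exact ⟨y none, hy none, X_ne_zero _, by
        rw [show y none * X (Sum.inl i) = y (some (Sum.inl i)) from mul_comm _ _]; exact hy _⟩
    · induction j using Fin.cases with
      | zero => exact ⟨1, Subalgebra.one_mem _, one_ne_zero, by rw [one_mul]; exact hy none⟩
      | succ j =>
        refine ⟨y (some (Sum.inl 0)), hy _, mul_ne_zero (X_ne_zero _) (X_ne_zero _), ?_⟩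
        rw [show y (some (Sum.inl 0)) * X (Sum.inr j.succ) = y (some (Sum.inr j)) * y none from by
          show (X (Sum.inl 0) * X (Sum.inr 0)) * X (Sum.inr j.succ) =
            (X (Sum.inl 0) * X (Sum.inr j.succ) * X (Sum.inr 0) : P k r s)
          ring]
        exact Subalgebra.mul_mem _ (hy _) (hy _)
  refine Algebra.IsAlgebraic.isTranscendenceBasis_of_lift_le_trdeg_of_finite k y ?_
  rw [MvPolynomial.trdeg_of_isDomain]
  simp
  norm_cast


theorem ringKrullDim_D : ringKrullDim (D k r s) = ((r + s + 1 : ℕ) : WithBot ℕ∞) := by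
  haveI : Algebra.FiniteType k (D k r s) :=
    (Subalgebra.fg_iff_finiteType _).mp (Subalgebra.fg_def.mpr
      ⟨_, Set.finite_range _, rfl⟩)
  obtain ⟨m, g, hg, hgf⟩ := exists_finite_inj_algHom_of_fg k (D k r s)
  let zD : Fin (r + 1) ⊕ Fin s → D k r s := fun t => ⟨z k r s t, z_mem k r s t⟩
  have hind : AlgebraicIndependent k zD :=
    AlgebraicIndependent.of_comp (D k r s).val (algebraicIndependent_z k r s)
  haveI : Algebra.IsAlgebraic (Algebra.adjoin k (Set.range zD)) (D k r s) := by
    have hz : ∀ t, zD t ∈ Algebra.adjoin k (Set.range zD) := fun t => Algebra.subset_adjoin ⟨t, rfl⟩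
    refine isAlgebraic_adjoin _ ((D k r s).val ⁻¹' Set.range fun q : Fin (r + 1) × Fin (s + 1) =>
      (X (Sum.inl q.1) * X (Sum.inr q.2) : P k r s)) Algebra.adjoin_adjoin_coe_preimage ?_
    rintro ⟨x, hx⟩ ⟨⟨i, j⟩, hij⟩
    obtain rfl : (X (Sum.inl i) * X (Sum.inr j) : P k r s) = x := hij
    induction j using Fin.cases with
    | zero => exact ⟨1, Subalgebra.one_mem _, one_ne_zero, by rw [one_mul]; exact hz (Sum.inl i)⟩
    | succ j =>
      refine ⟨zD (Sum.inl 0), hz _, fun h => mul_ne_zero (X_ne_zero _) (X_ne_zero _)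
        (congrArg Subtype.val h), ?_⟩
      have e : zD (Sum.inl 0) * ⟨X (Sum.inl i) * X (Sum.inr j.succ), hx⟩ =
          zD (Sum.inl i) * zD (Sum.inr j) := Subtype.ext (by
        show X (Sum.inl 0) * X (Sum.inr 0) * (X (Sum.inl i) * X (Sum.inr j.succ)) =
          (X (Sum.inl i) * X (Sum.inr 0) * (X (Sum.inl 0) * X (Sum.inr j.succ)) : P k r s)
        ring)
      rw [e]
      exact Subalgebra.mul_mem _ (hz _) (hz _)
  have htb : IsTranscendenceBasis k zD :=
    hind.isTranscendenceBasis_iff_isAlgebraic.mpr ‹_›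
  have h1 := htb.lift_cardinalMk_eq_trdeg
  have h2 : Algebra.trdeg k (MvPolynomial (Fin m) k) = Algebra.trdeg k (D k r s) := by
    algebraize [g.toRingHom]
    haveI : IsScalarTower k (MvPolynomial (Fin m) k) (D k r s) :=
      IsScalarTower.of_algebraMap_eq fun c => (g.commutes c).symm
    haveI : FaithfulSMul (MvPolynomial (Fin m) k) (D k r s) :=
      (faithfulSMul_iff_algebraMap_injective _ _).mpr hg
    haveI : Module.Finite (MvPolynomial (Fin m) k) (D k r s) := hgf
    haveI : Algebra.IsAlgebraic (MvPolynomial (Fin m) k) (D k r s) :=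
      Algebra.IsIntegral.isAlgebraic
    rw [← trdeg_add_eq k (MvPolynomial (Fin m) k) (A := D k r s),
      trdeg_eq_zero (R := MvPolynomial (Fin m) k) (A := D k r s), add_zero]
  rw [← h2, MvPolynomial.trdeg_of_isDomain] at h1
  simp at h1
  have hm : m = r + 1 + s := by
    have h1' : ((r + 1 + s : ℕ) : Cardinal.{u}) = m := by
      push_cast
      exact h1
    exact_mod_cast h1'.symm
  rw [← Param.ringKrullDim_eq_of_isIntegral g.toRingHom hgf.to_isIntegral hg,
    MvPolynomial.ringKrullDim_of_isNoetherianRing, ringKrullDim_eq_zero_of_field, zero_add,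
    Nat.card_eq_fintype_card, Fintype.card_fin, hm]
  exact_mod_cast (show r + 1 + s = r + s + 1 by omega)

end Groth.Agent.Segre.Poly
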